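import Cfsg.Agent.Fus.EssentialRankTwo
import Cfsg.Agent.PGroup.Frattini
import Mathlib.Data.Nat.Choose.Sum

/-!
Abelian `p`-groups with Frattini quotient of order at most `p ^ 2`: the series of `p ^ i`-th powers,
and automorphisms of order `p`.
-/

set_option autoImplicit false

namespace CfsgLib.Fus.AbelianRankTwo

open CfsgLib.Fus.EssentialSmall CfsgLib.Fus.EssentialRankTwo

variable {R : Type*} [CommGroup R] [Finite R] {p : ℕ} [Fact p.Prime]

/-- The subgroup of `m`-th powers. -/
def powers (R : Type*) [CommGroup R] (m : ℕ) : Subgroup R := (powMonoidHom m : R →* R).range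

omit [Finite R] in
theorem mem_powers {m : ℕ} {x : R} : x ∈ powers R m ↔ ∃ u : R, u ^ m = x := Iff.rfl

omit [Finite R] in
theorem map_mem_powers {m : ℕ} (a : MulAut R) {x : R} (hx : x ∈ powers R m) : a x ∈ powers R m := by
  obtain ⟨u, rfl⟩ := mem_powers.1 hx
  exact mem_powers.2 ⟨a u, (map_pow a u m).symm⟩

omit [Finite R] in
theorem powers_antitone {i j : ℕ} (h : i ≤ j) : powers R (p ^ j) ≤ powers R (p ^ i) := by
  intro x hx
  obtain ⟨u, rfl⟩ := mem_powers.1 hx
  refine mem_powers.2 ⟨u ^ p ^ (j - i), ?_⟩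
  rw [← pow_mul, ← pow_add, Nat.sub_add_cancel h]

omit [Finite R] in
theorem powers_one : powers R (p ^ 0) = ⊤ := by
  rw [pow_zero, eq_top_iff]
  exact fun x _ => mem_powers.2 ⟨x, pow_one x⟩

theorem frattini_eq_powers (hP : IsPGroup p R) : frattini R = powers R p := by
  refine le_antisymm (PGroup.frattini_le_of_elementary (fun a b => ?_) fun a => mem_powers.2 ⟨a, rfl⟩)
    fun x hx => ?_
  · rw [commutatorElement_eq_one_iff_mul_comm.2 (mul_comm a b)]
    exact one_mem _
  · obtain ⟨u, rfl⟩ := mem_powers.1 hx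
    exact PGroup.pow_prime_mem_frattini hP u

omit [Finite R] [Fact p.Prime] in
theorem powers_eq_bot {a : ℕ} (h : ∀ x : R, x ^ p ^ a = 1) : powers R (p ^ a) = ⊥ := by
  refine (Subgroup.eq_bot_iff_forall _).2 fun x hx => ?_
  obtain ⟨u, rfl⟩ := mem_powers.1 hx
  exact h u

/-- If `M = {x | x ^ p ^ (a - 1) = 1}` is the group of `p`-th powers, the successive quotients of the
power series all have the order of the first one. -/
theorem relIndex_powers {a : ℕ} (hM : ∀ x : R, x ^ p ^ (a - 1) = 1 → x ∈ powers R p) {t : ℕ}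
    (ht : t < a) : (powers R (p ^ (t + 1))).relIndex (powers R (p ^ t)) = (powers R p).index := by
  have h : (powers R (p ^ (t + 1))).comap (powMonoidHom (p ^ t) : R →* R) = powers R p := by
    refine le_antisymm (fun x hx => ?_) fun x hx => ?_
    · obtain ⟨w, hw⟩ := mem_powers.1 (Subgroup.mem_comap.1 hx)
      have h1 : (x * (w ^ p)⁻¹) ^ p ^ t = 1 := by
        rw [mul_pow, inv_pow, ← pow_mul, mul_inv_eq_one, ← pow_succ']
        exact hw.symm
      have h2 : x * (w ^ p)⁻¹ ∈ powers R p := by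
        refine hM _ ?_
        rw [← Nat.sub_add_cancel (Nat.le_sub_one_of_lt ht), pow_add, mul_comm (p ^ _) (p ^ t), pow_mul, h1, one_pow]
      simpa using (powers R p).mul_mem h2 (mem_powers.2 ⟨w, rfl⟩ : w ^ p ∈ powers R p)
    · obtain ⟨w, rfl⟩ := mem_powers.1 hx
      refine mem_powers.2 ⟨w, ?_⟩
      show w ^ p ^ (t + 1) = (w ^ p) ^ p ^ t
      rw [← pow_mul, pow_succ']
  rw [← h, Subgroup.index_comap]
  rfl

theorem card_powers_eq {a : ℕ} (hexp : ∀ x : R, x ^ p ^ a = 1)
    (hM : ∀ x : R, x ^ p ^ (a - 1) = 1 → x ∈ powers R p) (hidx : (powers R p).index = p ^ 2) :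
    ∀ t ≤ a, Nat.card (powers R (p ^ (a - t))) = p ^ (2 * t) := by
  intro t
  induction t with
  | zero => intro _; rw [Nat.sub_zero, powers_eq_bot hexp, Subgroup.card_bot, mul_zero, pow_zero]
  | succ t ih =>
    intro ht
    have h := relIndex_powers hM (show a - (t + 1) < a by omega)
    rw [show a - (t + 1) + 1 = a - t by omega, hidx] at h
    have h2 := ((powers R (p ^ (a - t))).subgroupOf (powers R (p ^ (a - (t + 1))))).card_mul_index
    rw [show ((powers R (p ^ (a - t))).subgroupOf (powers R (p ^ (a - (t + 1))))).index = p ^ 2 from h,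
      Nat.card_congr (Subgroup.subgroupOfEquivOfLe (powers_antitone (by omega))).toEquiv,
      ih (by omega), ← pow_add] at h2
    rw [← h2]
    ring_nf

theorem homocyclic {a : ℕ} (hP : IsPGroup p R) (hexp : ∀ x : R, x ^ p ^ a = 1)
    (hM : ∀ x : R, x ^ p ^ (a - 1) = 1 → x ∈ powers R p) (hidx : (powers R p).index = p ^ 2) :
    Nonempty (R ≃* Multiplicative (ZMod (p ^ a) × ZMod (p ^ a))) := by
  have hcard : Nat.card R = p ^ (2 * a) := by
    have h := card_powers_eq hexp hM hidx a le_rfl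
    rwa [Nat.sub_self, powers_one, Subgroup.card_top] at h
  obtain ⟨x, hx⟩ := PGroup.exists_fin_gen_of_frattini_index (p := p) (r := 2)
    (by rw [frattini_eq_powers hP, hidx])
  have : NeZero (p ^ a) := ⟨pow_ne_zero _ (Fact.out : p.Prime).ne_zero⟩
  have hval : ∀ (e : R) (u v : ZMod (p ^ a)), e ^ (u + v).val = e ^ u.val * e ^ v.val := fun e u v => by
    rw [← pow_add, pow_eq_pow_mod (u.val + v.val) (hexp e), ZMod.val_add]
  let f : Multiplicative (ZMod (p ^ a) × ZMod (p ^ a)) →* R :=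
    MonoidHom.mk' (fun v => x 0 ^ (Multiplicative.toAdd v).1.val * x 1 ^ (Multiplicative.toAdd v).2.val)
      fun u v => by
        simp only [toAdd_mul, Prod.fst_add, Prod.snd_add, hval]
        rw [mul_mul_mul_comm]
  have hf : Function.Surjective f := by
    rw [← MonoidHom.range_eq_top, eq_top_iff, ← hx, Subgroup.closure_le]
    rintro _ ⟨i, rfl⟩
    fin_cases i
    · refine ⟨Multiplicative.ofAdd (1, 0), ?_⟩
      show x 0 ^ (1 : ZMod (p ^ a)).val * x 1 ^ (0 : ZMod (p ^ a)).val = x 0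
      rw [ZMod.val_zero, pow_zero, mul_one, ← Nat.cast_one (R := ZMod (p ^ a)), ZMod.val_natCast,
        ← pow_eq_pow_mod 1 (hexp (x 0)), pow_one]
    · refine ⟨Multiplicative.ofAdd (0, 1), ?_⟩
      show x 0 ^ (0 : ZMod (p ^ a)).val * x 1 ^ (1 : ZMod (p ^ a)).val = x 1
      rw [ZMod.val_zero, pow_zero, one_mul, ← Nat.cast_one (R := ZMod (p ^ a)), ZMod.val_natCast,
        ← pow_eq_pow_mod 1 (hexp (x 1)), pow_one]
  refine ⟨(MulEquiv.ofBijective f ((Nat.bijective_iff_surjective_and_card f).2 ⟨hf, ?_⟩)).symm⟩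
  rw [Nat.card_congr Multiplicative.toAdd, Nat.card_prod, Nat.card_zmod, hcard, two_mul, pow_add]

/-- Either the group is homocyclic of rank two, or it has a characteristic subgroup containing the
`p`-th powers with both sections of order at most `p`. -/
theorem exists_series_or_homocyclic (hP : IsPGroup p R) (hidx : (powers R p).index ≤ p ^ 2) :
    (∃ M : Subgroup R, (∀ φ : MulAut R, ∀ x ∈ M, φ x ∈ M) ∧ powers R p ≤ M ∧ M.index ∣ p ∧
      (powers R p).relIndex M ∣ p) ∨
    ∃ a : ℕ, 1 ≤ a ∧ (powers R p).index = p ^ 2 ∧ (∀ x : R, x ^ p ^ a = 1) ∧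
      ∀ x : R, x ^ p ^ (a - 1) = 1 → x ∈ powers R p := by
  have hpp : p.Prime := Fact.out
  obtain ⟨i, hi⟩ := hP.index (powers R p)
  have hi2 : i ≤ 2 := by
    rw [hi] at hidx
    exact (Nat.pow_le_pow_iff_right hpp.one_lt).1 hidx
  rcases (show i ≤ 1 ∨ i = 2 by omega) with h1 | rfl
  · refine Or.inl ⟨powers R p, fun φ x hx => map_mem_powers φ hx, le_rfl, ?_, by simp⟩
    rw [hi]
    exact (Nat.pow_dvd_pow p h1).trans (pow_one p).dvd
  have hex : ∃ a, ∀ x : R, x ^ p ^ a = 1 := by
    obtain ⟨n, hn⟩ := IsPGroup.iff_card.1 hP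
    exact ⟨n, fun x => hn ▸ pow_card_eq_one'⟩
  classical
  obtain ⟨a, ha, hamin⟩ : ∃ a, (∀ x : R, x ^ p ^ a = 1) ∧ ∀ b < a, ¬ ∀ x : R, x ^ p ^ b = 1 :=
    ⟨Nat.find hex, Nat.find_spec hex, fun b hb => Nat.find_min hex hb⟩
  have ha1 : 1 ≤ a := by
    rcases Nat.eq_zero_or_pos a with rfl | h
    · exfalso
      have htop : powers R p = ⊤ := by
        rw [eq_top_iff]
        intro x _
        have hx : x = 1 := by simpa using ha x
        rw [hx]
        exact one_mem _
      rw [htop, Subgroup.index_top] at hi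
      exact (Nat.one_lt_pow two_ne_zero hpp.one_lt).ne hi
    · exact h
  set M : Subgroup R := (powMonoidHom (p ^ (a - 1)) : R →* R).ker
  have hPM : powers R p ≤ M := by
    intro x hx
    obtain ⟨u, rfl⟩ := mem_powers.1 hx
    show (u ^ p) ^ p ^ (a - 1) = 1
    rw [← pow_mul, ← pow_succ', Nat.sub_add_cancel ha1]
    exact ha u
  by_cases hMP : M = powers R p
  · exact Or.inr ⟨a, ha1, hi, ha, fun x hx => hMP ▸ hx⟩
  have hmul := Subgroup.relIndex_mul_index hPM
  rw [hi] at hmul
  obtain ⟨j, hj, hjr⟩ := (Nat.dvd_prime_pow hpp).1 (Dvd.intro _ hmul : (powers R p).relIndex M ∣ p ^ 2)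
  have hj0 : j ≠ 0 := fun h => by
    rw [h, pow_zero, Subgroup.relIndex_eq_one] at hjr
    exact hMP (le_antisymm hjr hPM)
  have hMtop : M ≠ ⊤ := fun h => hamin (a - 1) (by omega) fun x => by
    show x ∈ M
    rw [h]
    trivial
  obtain ⟨k, hk, hkr⟩ := (Nat.dvd_prime_pow hpp).1 (Dvd.intro_left _ hmul : M.index ∣ p ^ 2)
  have hk0 : k ≠ 0 := fun h => hMtop (Subgroup.index_eq_one.1 (by rw [hkr, h, pow_zero]))
  rw [hjr, hkr, ← pow_add] at hmul
  have hjk : j + k = 2 := Nat.pow_right_injective hpp.two_le hmul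
  refine Or.inl ⟨M, fun φ x hx => ?_, hPM, ?_, ?_⟩
  · show φ x ^ p ^ (a - 1) = 1
    rw [← map_pow, show x ^ p ^ (a - 1) = 1 from hx, map_one]
  · rw [hkr, show k = 1 by omega, pow_one]
  · rw [hjr, show j = 1 by omega, pow_one]

/-- A `p`-element fixes a nontrivial element of a `p`-group quotient of order `p ^ 2`: the second
iterate of its displacement lies in the `p`-th powers. -/
theorem displacement_sq {g : MulAut R} {k : ℕ} (hg : g ^ p ^ k = 1)
    (hidx : (powers R p).index = p ^ 2) (x : R) :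
    (x⁻¹ * g x)⁻¹ * g (x⁻¹ * g x) ∈ powers R p := by
  have hmap : (powers R p).map (g : R ≃* R).toMonoidHom = powers R p := by
    refine Subgroup.eq_of_le_of_card_ge ?_ ?_
    · rintro _ ⟨y, hy, rfl⟩
      exact map_mem_powers g hy
    · rw [Subgroup.card_map_of_injective (g : R ≃* R).injective]
  let q : MulAut (R ⧸ powers R p) := QuotientGroup.congr (powers R p) (powers R p) g hmap
  have hq : ∀ y : R, q (y : R ⧸ powers R p) = ((g y : R) : R ⧸ powers R p) := fun y => rfl
  have hpw : ∀ (n : ℕ) (y : R), (q ^ n) (y : R ⧸ powers R p) = (((g ^ n) y : R) : R ⧸ powers R p) := by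
    intro n
    induction n with
    | zero => intro y; simp
    | succ n ih => intro y; rw [pow_succ, pow_succ, MulAut.mul_apply, hq, ih, MulAut.mul_apply]
  have hqk : q ^ p ^ k = 1 := MulEquiv.ext fun z => by
    obtain ⟨y, rfl⟩ := QuotientGroup.mk_surjective z
    rw [hpw, hg]
    rfl
  have hP : IsPGroup p (Subgroup.zpowers q) := by
    rintro ⟨_, m, rfl⟩
    refine ⟨k, Subtype.ext ?_⟩
    show (q ^ m) ^ p ^ k = 1
    rw [← zpow_natCast, ← zpow_mul, mul_comm, zpow_mul, zpow_natCast, hqk, one_zpow]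
  have hcard : Nat.card (R ⧸ powers R p) = p ^ 2 := hidx
  obtain ⟨e, he, hne⟩ := hP.exists_fixed_point_of_prime_dvd_card_of_fixed_point (R ⧸ powers R p)
    (hcard ▸ dvd_pow_self p two_ne_zero) (a := 1) fun b => map_one (b : MulAut (R ⧸ powers R p))
  have hqe : q e = e := he ⟨q, Subgroup.mem_zpowers q⟩
  have hord : orderOf e = p := orderOf_eq_prime (by
    obtain ⟨y, rfl⟩ := QuotientGroup.mk_surjective e
    rw [← QuotientGroup.mk_pow, QuotientGroup.eq_one_iff]
    exact mem_powers.2 ⟨y, rfl⟩) fun h => hne h.symm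
  have hfix : ∀ z ∈ Subgroup.zpowers e, q z = z := by
    rintro _ ⟨m, rfl⟩
    simp [map_zpow, hqe]
  have h := inv_mul_mem_of_relIndex hqk (N := Subgroup.zpowers e) (M := ⊤) inferInstance
    (by rw [relIndex_eq_of_card le_top (m := p)
      (by rw [Subgroup.card_top, hcard, Nat.card_zpowers, hord, pow_two])])
    (fun z _ => Subgroup.mem_top _) (fun z hz => by rw [hfix z hz]; exact hz)
    (x : R ⧸ powers R p) (Subgroup.mem_top _)
  rw [hq, ← QuotientGroup.mk_inv, ← QuotientGroup.mk_mul] at h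
  have h2 := hfix _ h
  rw [hq] at h2
  rw [← QuotientGroup.eq_one_iff, QuotientGroup.mk_mul, QuotientGroup.mk_inv, h2, inv_mul_cancel]

/-- An automorphism of order dividing `p ≥ 5` of a homocyclic group of rank two and exponent at
least `p ^ 2` is trivial modulo `p`-th powers. -/
theorem trivial_of_five {a : ℕ} (hp : 5 ≤ p) (ha : 2 ≤ a)
    (hM : ∀ x : R, x ^ p ^ (a - 1) = 1 → x ∈ powers R p) (hidx : (powers R p).index = p ^ 2)
    {g : MulAut R} (hg : g ^ p = 1) (x : R) : x⁻¹ * g x ∈ powers R p := by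
  let T : AddMonoid.End (Additive R) := MonoidHom.toAdditive (g : R ≃* R).toMonoidHom
  have hT : ∀ (n : ℕ) (y : R), (T ^ n) (Additive.ofMul y) = Additive.ofMul ((g ^ n) y) := by
    intro n
    induction n with
    | zero => intro y; rfl
    | succ n ih =>
      intro y
      show (T ^ (n + 1)) (Additive.ofMul y) = _
      rw [pow_succ', pow_succ']
      show T ((T ^ n) (Additive.ofMul y)) = _
      rw [ih]
      rfl
  set N : AddMonoid.End (Additive R) := T - 1 with hN
  set P : AddSubgroup (Additive R) := (powers R (p ^ 2)).toAddSubgroup with hPdef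
  have hN2 : ∀ z : Additive R, ∃ w : Additive R, (N ^ 2) z = p • w := by
    intro z
    obtain ⟨w, hw⟩ := mem_powers.1 (displacement_sq (k := 1) (by rwa [pow_one]) hidx z.toMul)
    refine ⟨Additive.ofMul w, ?_⟩
    rw [sq]
    show (T (T z - z) - (T z - z)) = _
    rw [← ofMul_pow, hw, sub_eq_neg_add, sub_eq_neg_add]
    rfl
  have hpmem : ∀ w : Additive R, p • p • w ∈ P := fun w => by
    show Additive.toMul (p • p • w) ∈ powers R (p ^ 2)
    refine mem_powers.2 ⟨Additive.toMul w, ?_⟩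
    rw [pow_two, pow_mul]
    rfl
  have hP2 : ∀ i, 4 ≤ i → ∀ z : Additive R, (N ^ i) z ∈ P := by
    intro i hi z
    obtain ⟨w, hw⟩ := hN2 ((N ^ (i - 4)) z)
    obtain ⟨w', hw'⟩ := hN2 w
    have : (N ^ i) z = (N ^ 2) ((N ^ 2) ((N ^ (i - 4)) z)) := by
      conv_lhs => rw [show i = 2 + 2 + (i - 4) by omega, pow_add, pow_add]
      rfl
    rw [this, hw, map_nsmul, hw']
    exact hpmem w'
  set z : Additive R := Additive.ofMul x
  have hsum : ∑ i ∈ Finset.range (p + 1), (p.choose i) • (N ^ i) z = z := by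
    have h := (Commute.one_right N).add_pow p
    rw [show N + 1 = T by rw [hN, sub_add_cancel]] at h
    have h' := DFunLike.congr_fun h z
    rw [hT, hg, MulAut.one_apply] at h'
    refine Eq.trans ?_ h'.symm
    let ev : AddMonoid.End (Additive R) →+ Additive R :=
      { toFun := fun f => f z, map_zero' := rfl, map_add' := fun _ _ => rfl }
    show _ = ev _
    rw [map_sum]
    refine Finset.sum_congr rfl fun i _ => ?_
    rw [one_pow, mul_one]
    show _ = (N ^ i) ((p.choose i : AddMonoid.End (Additive R)) z)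
    rw [AddMonoid.End.natCast_apply, map_nsmul]
  rw [Finset.range_eq_Ico, Finset.sum_eq_sum_Ico_succ_bot (by omega : 0 < p + 1),
    Finset.sum_eq_sum_Ico_succ_bot (by omega : 1 < p + 1), Nat.choose_zero_right, one_smul,
    Nat.choose_one_right, pow_zero, pow_one, AddMonoid.End.coe_one, id_eq, add_eq_left] at hsum
  have htail : ∑ i ∈ Finset.Ico (1 + 1) (p + 1), (p.choose i) • (N ^ i) z ∈ P := by
    refine AddSubgroup.sum_mem _ fun i hi => ?_
    rw [Finset.mem_Ico] at hi
    rcases eq_or_lt_of_le (show i ≤ p by omega) with rfl | hlt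
    · exact AddSubgroup.nsmul_mem _ (hP2 _ (by omega) z) _
    obtain ⟨c, hc⟩ := (Fact.out : p.Prime).dvd_choose_self (by omega : i ≠ 0) hlt
    obtain ⟨w, hw⟩ := hN2 ((N ^ (i - 2)) z)
    have : (N ^ i) z = (N ^ 2) ((N ^ (i - 2)) z) := by
      conv_lhs => rw [show i = 2 + (i - 2) by omega, pow_add]
      rfl
    rw [this, hw, hc, mul_nsmul', smul_comm c p w]
    exact hpmem _
  have hpN : p • N z ∈ P := by
    rw [eq_neg_of_add_eq_zero_left hsum]
    exact P.neg_mem htail
  have hpN' : Additive.toMul (p • N z) ∈ powers R (p ^ 2) := hpN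
  obtain ⟨u, hu⟩ := mem_powers.1 hpN'
  have hu' : (x⁻¹ * g x) ^ p = u ^ p ^ 2 := by
    refine Eq.trans ?_ hu.symm
    show (x⁻¹ * g x) ^ p = (g x / x) ^ p
    rw [div_eq_inv_mul]
  have h := hM ((x⁻¹ * g x) * (u ^ p)⁻¹) ?_
  · simpa using (powers R p).mul_mem h (mem_powers.2 ⟨u, rfl⟩ : u ^ p ∈ powers R p)
  · rw [show a - 1 = 1 + (a - 2) by omega, pow_add, pow_one, pow_mul, mul_pow, hu', inv_pow, ← pow_mul,
      ← pow_two, mul_inv_cancel, one_pow]

end CfsgLib.Fus.AbelianRankTwo
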