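import Cfsg.Agent.Fus.Extension
import Cfsg.Agent.Eq.Def_FusionComponents
import Cfsg.Prelude.Def_FusionComponents

/-!
Transport of fusion systems along an isomorphism between the groups they live over.
-/

set_option autoImplicit false

namespace CfsgLib.Fus.Transport

open Cfsg Cfsg.FusionSystem CfsgLib.Fus

variable {Ω Ω' : Type*} [Group Ω] [Group Ω'] {S : Subgroup Ω} {S' : Subgroup Ω'}

/-! ### The element map and the subgroup map -/

/-- The isomorphism as a total map on the ambient group (trivial outside `S`). -/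
noncomputable def tf (e : S ≃* S') (x : Ω) : Ω' := by
  classical exact if h : x ∈ S then ((e ⟨x, h⟩ : S') : Ω') else 1

theorem tf_of_mem (e : S ≃* S') {x : Ω} (h : x ∈ S) : tf e x = ((e ⟨x, h⟩ : S') : Ω') := by
  simp [tf, dif_pos h]

theorem tf_mem (e : S ≃* S') (x : Ω) : tf e x ∈ S' := by
  by_cases h : x ∈ S
  · rw [tf_of_mem e h]; exact (e _).2
  · simp [tf, dif_neg h]

theorem tf_one (e : S ≃* S') : tf e 1 = 1 := by
  rw [tf_of_mem e S.one_mem, show (⟨1, S.one_mem⟩ : S) = 1 from rfl, map_one]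
  rfl

theorem tf_mul (e : S ≃* S') {x y : Ω} (hx : x ∈ S) (hy : y ∈ S) : tf e (x * y) = tf e x * tf e y := by
  rw [tf_of_mem e hx, tf_of_mem e hy, tf_of_mem e (S.mul_mem hx hy),
    show (⟨x * y, S.mul_mem hx hy⟩ : S) = ⟨x, hx⟩ * ⟨y, hy⟩ from rfl, map_mul]
  rfl

theorem tf_inv (e : S ≃* S') {x : Ω} (hx : x ∈ S) : tf e x⁻¹ = (tf e x)⁻¹ := by
  rw [tf_of_mem e hx, tf_of_mem e (S.inv_mem hx), show (⟨x⁻¹, S.inv_mem hx⟩ : S) = ⟨x, hx⟩⁻¹ from rfl, map_inv]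
  rfl

theorem tf_conj (e : S ≃* S') {g x : Ω} (hg : g ∈ S) (hx : x ∈ S) :
    tf e (g * x * g⁻¹) = tf e g * tf e x * (tf e g)⁻¹ := by
  rw [tf_mul e (S.mul_mem hg hx) (S.inv_mem hg), tf_mul e hg hx, tf_inv e hg]

theorem tf_symm_tf (e : S ≃* S') {x : Ω} (hx : x ∈ S) : tf e.symm (tf e x) = x := by
  rw [tf_of_mem e hx, tf_of_mem e.symm (e ⟨x, hx⟩).2]
  simp

theorem tf_tf_symm (e : S ≃* S') {y : Ω'} (hy : y ∈ S') : tf e (tf e.symm y) = y :=
  tf_symm_tf e.symm hy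

theorem tf_inj (e : S ≃* S') {x y : Ω} (hx : x ∈ S) (hy : y ∈ S) (h : tf e x = tf e y) : x = y := by
  rw [← tf_symm_tf e hx, h, tf_symm_tf e hy]

/-- The image of a subgroup. -/
noncomputable def sub (e : S ≃* S') (P : Subgroup Ω) : Subgroup Ω' :=
  Cfsg.FusionSystem.imageAlong (S'.subtype.comp e.toMonoidHom) P

variable {e : S ≃* S'}

theorem mem_sub {P : Subgroup Ω} {y : Ω'} : y ∈ sub e P ↔ ∃ x, x ∈ P ∧ x ∈ S ∧ tf e x = y := by
  constructor
  · rintro ⟨x, hx, rfl⟩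
    exact ⟨x, hx, x.2, tf_of_mem e x.2⟩
  · rintro ⟨x, hxP, hxS, rfl⟩
    exact ⟨⟨x, hxS⟩, hxP, (tf_of_mem e hxS).symm⟩

theorem sub_le (P : Subgroup Ω) : sub e P ≤ S' := by
  intro y hy
  obtain ⟨x, -, -, rfl⟩ := mem_sub.1 hy
  exact tf_mem e x

theorem tf_mem_sub {P : Subgroup Ω} (hP : P ≤ S) {x : Ω} (hx : x ∈ P) : tf e x ∈ sub e P :=
  mem_sub.2 ⟨x, hx, hP hx, rfl⟩

theorem of_tf_mem_sub {P : Subgroup Ω} {x : Ω} (hx : x ∈ S) (h : tf e x ∈ sub e P) : x ∈ P := by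
  obtain ⟨z, hzP, hzS, hz⟩ := mem_sub.1 h
  exact tf_inj e hzS hx hz ▸ hzP

theorem sub_mono {P Q : Subgroup Ω} (h : P ≤ Q) : sub e P ≤ sub e Q := by
  intro y hy
  obtain ⟨x, hx, hxS, rfl⟩ := mem_sub.1 hy
  exact mem_sub.2 ⟨x, h hx, hxS, rfl⟩

theorem sub_symm_sub {P : Subgroup Ω} (hP : P ≤ S) : sub e.symm (sub e P) = P := by
  ext x
  constructor
  · intro hx
    obtain ⟨y, hy, -, rfl⟩ := mem_sub.1 hx
    obtain ⟨z, hz, hzS, rfl⟩ := mem_sub.1 hy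
    rwa [tf_symm_tf e hzS]
  · intro hx
    exact mem_sub.2 ⟨tf e x, tf_mem_sub hP hx, tf_mem e x, tf_symm_tf e (hP hx)⟩

theorem sub_sub_symm {P' : Subgroup Ω'} (hP : P' ≤ S') : sub e (sub e.symm P') = P' :=
  sub_symm_sub (e := e.symm) hP

theorem exists_sub {T : Subgroup Ω} (hT : T ≤ S) {P' : Subgroup Ω'} (h : P' ≤ sub e T) :
    ∃ P ≤ T, P' = sub e P :=
  ⟨sub e.symm P', (sub_mono h).trans (sub_symm_sub hT).le, (sub_sub_symm (h.trans (sub_le T))).symm⟩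

theorem sub_inj {P Q : Subgroup Ω} (hP : P ≤ S) (hQ : Q ≤ S) (h : sub e P = sub e Q) : P = Q := by
  rw [← sub_symm_sub (e := e) hP, h, sub_symm_sub hQ]

theorem le_of_sub_le {P Q : Subgroup Ω} (hP : P ≤ S) (h : sub e P ≤ sub e Q) : P ≤ Q :=
  fun _ hx => of_tf_mem_sub (hP hx) (h (tf_mem_sub hP hx))

theorem sub_bot : sub e ⊥ = ⊥ := by
  refine (Subgroup.eq_bot_iff_forall _).2 fun y hy => ?_
  obtain ⟨x, hx, -, rfl⟩ := mem_sub.1 hy
  rw [Subgroup.mem_bot.1 hx, tf_one]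

theorem sub_top_eq : sub e S = S' :=
  le_antisymm (sub_le S) fun y hy => mem_sub.2 ⟨tf e.symm y, tf_mem _ y, tf_mem _ y, tf_tf_symm e hy⟩

theorem sub_sup {P Q : Subgroup Ω} (hP : P ≤ S) (hQ : Q ≤ S) : sub e (P ⊔ Q) = sub e P ⊔ sub e Q := by
  refine le_antisymm ?_ (sup_le (sub_mono le_sup_left) (sub_mono le_sup_right))
  have hle : sub e P ⊔ sub e Q ≤ S' := sup_le (sub_le P) (sub_le Q)
  have h : P ⊔ Q ≤ sub e.symm (sub e P ⊔ sub e Q) :=
    sup_le ((sub_symm_sub hP).symm.le.trans (sub_mono le_sup_left))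
      ((sub_symm_sub hQ).symm.le.trans (sub_mono le_sup_right))
  exact (sub_mono h).trans (sub_sub_symm hle).le

theorem sub_inf {P Q : Subgroup Ω} (hP : P ≤ S) : sub e (P ⊓ Q) = sub e P ⊓ sub e Q := by
  refine le_antisymm (le_inf (sub_mono inf_le_left) (sub_mono inf_le_right)) ?_
  rintro y ⟨hy, hy'⟩
  obtain ⟨x, hx, hxS, rfl⟩ := mem_sub.1 hy
  exact tf_mem_sub (inf_le_left.trans hP) ⟨hx, of_tf_mem_sub hxS hy'⟩

/-- The isomorphism of a subgroup onto its image. -/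
noncomputable def isoTo {P : Subgroup Ω} {P' : Subgroup Ω'} (hP : P ≤ S) (h : sub e P = P') : P ≃* P' where
  toFun x := ⟨tf e x, h.le (tf_mem_sub hP x.2)⟩
  invFun y := ⟨tf e.symm y, by
    obtain ⟨x, hx, hxS, hxy⟩ := mem_sub.1 (h.ge y.2)
    rw [← hxy, tf_symm_tf e hxS]
    exact hx⟩
  left_inv x := Subtype.ext (tf_symm_tf e (hP x.2))
  right_inv y := Subtype.ext (tf_tf_symm e (sub_le P (h.ge y.2)))
  map_mul' x y := Subtype.ext (tf_mul e (hP x.2) (hP y.2))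

theorem isoTo_apply {P : Subgroup Ω} {P' : Subgroup Ω'} (hP : P ≤ S) (h : sub e P = P') (x : P) :
    ((isoTo hP h x : P') : Ω') = tf e x := rfl

theorem isoTo_symm_apply {P : Subgroup Ω} {P' : Subgroup Ω'} (hP : P ≤ S) (h : sub e P = P') (y : P') :
    (((isoTo hP h).symm y : P) : Ω) = tf e.symm y := rfl

theorem card_sub {P : Subgroup Ω} (hP : P ≤ S) : Nat.card (sub e P) = Nat.card P :=
  (Nat.card_congr (isoTo (e := e) hP rfl).toEquiv).symm

/-- The transported homomorphism. -/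
noncomputable def pushHom {P : Subgroup Ω} (hP : P ≤ S) (φ : P →* Ω) (hφ : ∀ x, φ x ∈ S) :
    sub e P →* Ω' :=
  MonoidHom.mk' (fun y => tf e (φ ((isoTo hP rfl).symm y))) fun a b => by
    rw [map_mul, map_mul, tf_mul e (hφ _) (hφ _)]

theorem pushHom_apply {P : Subgroup Ω} (hP : P ≤ S) (φ : P →* Ω) (hφ : ∀ x, φ x ∈ S) (x : P) :
    pushHom (e := e) hP φ hφ ⟨tf e x, tf_mem_sub hP x.2⟩ = tf e (φ x) := by
  show tf e (φ ((isoTo hP rfl).symm (isoTo hP rfl x))) = _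
  rw [MulEquiv.symm_apply_apply]

/-- `φ'` is the transport of `φ`. -/
def Rel (e : S ≃* S') {P : Subgroup Ω} {P' : Subgroup Ω'} (φ : P →* Ω) (φ' : P' →* Ω') : Prop :=
  ∀ (x : P) (h : tf e x ∈ P'), φ' ⟨tf e x, h⟩ = tf e (φ x)

theorem rel_pushHom {P : Subgroup Ω} (hP : P ≤ S) (φ : P →* Ω) (hφ : ∀ x, φ x ∈ S) :
    Rel e φ (pushHom (e := e) hP φ hφ) := fun x _ => pushHom_apply hP φ hφ x

theorem rel_range {P : Subgroup Ω} (hP : P ≤ S) {φ : P →* Ω} {φ' : sub e P →* Ω'} (hφ : ∀ x, φ x ∈ S)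
    (h : Rel e φ φ') : φ'.range = sub e φ.range := by
  ext y
  constructor
  · rintro ⟨⟨z, hz⟩, rfl⟩
    obtain ⟨x, hx, hxS, rfl⟩ := mem_sub.1 hz
    rw [h ⟨x, hx⟩ hz]
    exact mem_sub.2 ⟨_, ⟨_, rfl⟩, hφ _, rfl⟩
  · intro hy
    obtain ⟨_, ⟨x, rfl⟩, -, rfl⟩ := mem_sub.1 hy
    exact ⟨⟨_, tf_mem_sub hP x.2⟩, h x _⟩

/-! ### Corresponding systems -/

theorem hom_congr_sub {T : Subgroup Ω} (E : Cfsg.FusionSystem T) {P Q : Subgroup Ω} (hPQ : P = Q)
    {φ : P →* Ω} {ψ : Q →* Ω} (hφ : φ ∈ E.Hom P)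
    (h : ∀ (x : Ω) (hx : x ∈ P) (hx' : x ∈ Q), ψ ⟨x, hx'⟩ = φ ⟨x, hx⟩) : ψ ∈ E.Hom Q := by
  subst hPQ
  exact hom_congr E hφ fun x => h x x.2 x.2

/-- `E'` over `T'` is the transport of `E` over `T` along `e`. -/
structure Corr (e : S ≃* S') {T : Subgroup Ω} {T' : Subgroup Ω'} (E : Cfsg.FusionSystem T)
    (E' : Cfsg.FusionSystem T') : Prop where
  le : T ≤ S
  eq : T' = sub e T
  iff : ∀ {P : Subgroup Ω} {φ : P →* Ω} {φ' : sub e P →* Ω'}, P ≤ T → (∀ x, φ x ∈ T) → Rel e φ φ' →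
    (φ' ∈ E'.Hom (sub e P) ↔ φ ∈ E.Hom P)

variable {T : Subgroup Ω} {T' : Subgroup Ω'} {E : Cfsg.FusionSystem T} {E' : Cfsg.FusionSystem T'}

theorem Corr.hom (h : Corr e E E') {P : Subgroup Ω} {φ : P →* Ω} (hφ : φ ∈ E.Hom P) :
    ∃ φ' ∈ E'.Hom (sub e P), Rel e φ φ' := by
  have hP := (hom_le E hφ).trans h.le
  have hS : ∀ x, φ x ∈ S := fun x => h.le (hom_mem E hφ x)
  exact ⟨pushHom hP φ hS, (h.iff (hom_le E hφ) (hom_mem E hφ) (rel_pushHom hP φ hS)).2 hφ,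
    rel_pushHom hP φ hS⟩

theorem Corr.hom_back (h : Corr e E E') {P : Subgroup Ω} (hP : P ≤ T) {φ' : sub e P →* Ω'}
    (hφ' : φ' ∈ E'.Hom (sub e P)) : ∃ φ ∈ E.Hom P, Rel e φ φ' := by
  have hPS := hP.trans h.le
  have hmem : ∀ y, φ' y ∈ sub e T := fun y => h.eq ▸ hom_mem E' hφ' y
  let φ : P →* Ω := MonoidHom.mk' (fun x => tf e.symm (φ' (isoTo hPS rfl x))) fun a b => by
    rw [map_mul, map_mul, tf_mul e.symm (sub_le T (hmem _)) (sub_le T (hmem _))]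
  have hφT : ∀ x, φ x ∈ T := fun x => by
    obtain ⟨z, hz, hzS, hzx⟩ := mem_sub.1 (hmem (isoTo hPS rfl x))
    show tf e.symm (φ' (isoTo hPS rfl x)) ∈ T
    rw [← hzx, tf_symm_tf e hzS]
    exact hz
  have hrel : Rel e φ φ' := fun x hx => by
    show _ = tf e (tf e.symm _)
    rw [tf_tf_symm e (sub_le T (hmem _))]
    rfl
  exact ⟨φ, (h.iff hP hφT hrel).1 hφ', hrel⟩

theorem Corr.symm (h : Corr e E E') : Corr e.symm E' E := by
  refine ⟨h.eq ▸ sub_le T, (h.eq ▸ (sub_symm_sub h.le).symm), fun {P' ψ' ψ} hP' hψ' hrel => ?_⟩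
  have hP'S : P' ≤ S' := (h.eq ▸ hP' : P' ≤ sub e T).trans (sub_le T)
  have hPT : (sub e.symm P') ≤ T := (sub_mono (h.eq ▸ hP' : P' ≤ sub e T)).trans (sub_symm_sub h.le).le
  have hψT : ∀ x, ψ x ∈ T := by
    rintro ⟨x, hx⟩
    obtain ⟨y, hy, -, rfl⟩ := mem_sub.1 hx
    rw [hrel ⟨y, hy⟩ hx]
    exact (sub_symm_sub h.le).le (tf_mem_sub (sub_le T) (h.eq ▸ hψ' ⟨y, hy⟩))
  have hPP : sub e (sub e.symm P') = P' := sub_sub_symm hP'S
  let φ' : sub e (sub e.symm P') →* Ω' := ψ'.comp (Subgroup.inclusion hPP.le)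
  have hrel' : Rel e ψ φ' := by
    rintro ⟨x, hx⟩ hx'
    obtain ⟨y, hy, hyS, rfl⟩ := mem_sub.1 hx
    have h1 : tf e (ψ ⟨tf e.symm y, hx⟩) = ψ' ⟨y, hy⟩ :=
      (congrArg (tf e) (hrel ⟨y, hy⟩ hx)).trans (tf_tf_symm e (sub_le T (h.eq.le (hψ' ⟨y, hy⟩))))
    refine Eq.trans ?_ h1.symm
    exact congrArg ψ' (Subtype.ext (tf_tf_symm e hyS))
  rw [← h.iff hPT hψT hrel']
  constructor
  · intro hh
    exact hom_congr_sub E' hPP hh fun x _ _ => rfl
  · intro hh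
    exact hom_congr_sub E' hPP.symm hh fun x _ _ => rfl

theorem Corr.isConj (h : Corr e E E') {P Q : Subgroup Ω} (hPQ : E.IsConj P Q) :
    E'.IsConj (sub e P) (sub e Q) := by
  obtain ⟨φ, hφ, rfl⟩ := hPQ
  obtain ⟨φ', hφ', hrel⟩ := h.hom hφ
  exact ⟨φ', hφ', rel_range ((hom_le E hφ).trans h.le) (fun x => h.le (hom_mem E hφ x)) hrel⟩

theorem Corr.isConj_iff (h : Corr e E E') {P Q : Subgroup Ω} (hP : P ≤ T) (hQ : Q ≤ T) :
    E'.IsConj (sub e P) (sub e Q) ↔ E.IsConj P Q := by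
  refine ⟨fun hh => ?_, h.isConj⟩
  have := h.symm.isConj hh
  rwa [sub_symm_sub (hP.trans h.le), sub_symm_sub (hQ.trans h.le)] at this

/-! ### Normalizers, centralizers -/

theorem mem_normalizer_tf {P : Subgroup Ω} (hP : P ≤ S) {g : Ω} (hg : g ∈ S) :
    tf e g ∈ Subgroup.normalizer (sub e P : Set Ω') ↔ g ∈ Subgroup.normalizer (P : Set Ω) := by
  have key : ∀ (k x : Ω), k ∈ S → x ∈ S →
      (tf e k * tf e x * (tf e k)⁻¹ ∈ sub e P ↔ k * x * k⁻¹ ∈ P) := fun k x hk hx => by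
    rw [← tf_conj e hk hx]
    exact ⟨fun h => of_tf_mem_sub (S.mul_mem (S.mul_mem hk hx) (S.inv_mem hk)) h, fun h => tf_mem_sub hP h⟩
  constructor
  · intro h
    rw [Subgroup.mem_normalizer_iff] at h ⊢
    intro x
    constructor
    · intro hx
      exact (key g x hg (hP hx)).1 ((h _).1 (tf_mem_sub hP hx))
    · intro hx
      have hxS : x ∈ S := by
        have := S.mul_mem (S.mul_mem (S.inv_mem hg) (hP hx)) hg
        convert this using 1
        group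
      exact of_tf_mem_sub hxS ((h _).2 ((key g x hg hxS).2 hx))
  · intro h
    rw [Subgroup.mem_normalizer_iff] at h ⊢
    intro y
    constructor
    · intro hy
      obtain ⟨x, hx, hxS, rfl⟩ := mem_sub.1 hy
      exact (key g x hg hxS).2 ((h x).1 hx)
    · intro hy
      have hyS : y ∈ S' := by
        have := S'.mul_mem (S'.mul_mem (S'.inv_mem (tf_mem e g)) (sub_le P hy)) (tf_mem e g)
        convert this using 1
        group
      rw [← tf_tf_symm e hyS] at hy ⊢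
      exact tf_mem_sub hP ((h _).2 ((key g _ hg (tf_mem _ y)).1 hy))

theorem sub_normalizerIn {R P : Subgroup Ω} (hR : R ≤ S) (hP : P ≤ S) :
    sub e (normalizerIn R P) = normalizerIn (sub e R) (sub e P) := by
  ext y
  constructor
  · intro hy
    obtain ⟨g, hg, hgS, rfl⟩ := mem_sub.1 hy
    exact ⟨tf_mem_sub hR hg.1, (mem_normalizer_tf hP hgS).2 hg.2⟩
  · rintro ⟨hy, hy'⟩
    obtain ⟨g, hg, hgS, rfl⟩ := mem_sub.1 hy
    exact mem_sub.2 ⟨g, ⟨hg, (mem_normalizer_tf hP hgS).1 hy'⟩, hgS, rfl⟩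

theorem sub_centralizerIn {R P : Subgroup Ω} (hR : R ≤ S) (hP : P ≤ S) :
    sub e (centralizerIn R P) = centralizerIn (sub e R) (sub e P) := by
  ext y
  constructor
  · intro hy
    obtain ⟨g, hg, hgS, rfl⟩ := mem_sub.1 hy
    refine ⟨tf_mem_sub hR hg.1, fun z hz => ?_⟩
    obtain ⟨x, hx, hxS, rfl⟩ := mem_sub.1 hz
    rw [← tf_mul e hxS hgS, ← tf_mul e hgS hxS, hg.2 x hx]
  · rintro ⟨hy, hy'⟩
    obtain ⟨g, hg, hgS, rfl⟩ := mem_sub.1 hy
    refine mem_sub.2 ⟨g, ⟨hg, fun x hx => tf_inj e (S.mul_mem (hP hx) hgS) (S.mul_mem hgS (hP hx)) ?_⟩, hgS, rfl⟩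
    rw [tf_mul e (hP hx) hgS, tf_mul e hgS (hP hx)]
    exact hy' _ (tf_mem_sub hP hx)

theorem Corr.fullyNormalized (h : Corr e E E') {P : Subgroup Ω} (hP : E.IsFullyNormalized P) :
    E'.IsFullyNormalized (sub e P) := by
  refine ⟨h.eq ▸ sub_mono hP.1, fun Q' hQ' => ?_⟩
  obtain ⟨Q, hQ, rfl⟩ := exists_sub h.le (h.eq ▸ isConj_le_right hQ' : Q' ≤ sub e T)
  rw [h.eq, ← sub_normalizerIn h.le (hQ.trans h.le), ← sub_normalizerIn h.le (hP.1.trans h.le),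
    card_sub ((normalizerIn_le Q).trans h.le), card_sub ((normalizerIn_le P).trans h.le)]
  exact hP.2 Q ((h.isConj_iff hP.1 hQ).1 hQ')

/-! ### Automorphism groups -/

theorem congr_apply {P : Subgroup Ω} {P' : Subgroup Ω'} (hP : P ≤ S) (hh : sub e P = P') (α : MulAut P)
    (x : P) : MulAut.congr (isoTo hP hh) α (isoTo hP hh x) = isoTo hP hh (α x) := by
  show isoTo hP hh (α ((isoTo hP hh).symm (isoTo hP hh x))) = _
  rw [MulEquiv.symm_apply_apply]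

theorem Corr.autGroup_iff (h : Corr e E E') {P : Subgroup Ω} {P' : Subgroup Ω'} (hP : P ≤ T)
    (hPS : P ≤ S) (hh : sub e P = P') {α : MulAut P} :
    MulAut.congr (isoTo hPS hh) α ∈ E'.autGroup P' ↔ α ∈ E.autGroup P := by
  subst hh
  rw [mem_autGroup_iff E' (h.eq ▸ sub_mono hP), mem_autGroup_iff E hP]
  exact h.iff hP (fun x => hP (α x).2) fun x _ => congrArg Subtype.val (congr_apply hPS rfl α x)

theorem autInducedBy_iff {K P : Subgroup Ω} {P' : Subgroup Ω'} (hK : K ≤ S) (hPS : P ≤ S)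
    (hh : sub e P = P') {α : MulAut P} :
    MulAut.congr (isoTo hPS hh) α ∈ Cfsg.autInducedBy (sub e K) P' ↔ α ∈ Cfsg.autInducedBy K P := by
  rw [mem_autInducedBy_iff, mem_autInducedBy_iff]
  constructor
  · rintro ⟨g', hg', hgα⟩
    obtain ⟨g, hg, hgS, rfl⟩ := mem_sub.1 hg'
    refine ⟨g, hg, fun x => tf_inj e (hPS (α x).2) (S.mul_mem (S.mul_mem hgS (hPS x.2)) (S.inv_mem hgS)) ?_⟩
    have := hgα (isoTo hPS hh x)
    rw [congr_apply] at this
    rw [tf_conj e hgS (hPS x.2)]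
    exact this
  · rintro ⟨g, hg, hgα⟩
    refine ⟨tf e g, tf_mem_sub hK hg, fun y => ?_⟩
    obtain ⟨x, rfl⟩ := (isoTo hPS hh).surjective y
    rw [congr_apply, isoTo_apply, isoTo_apply, hgα, tf_conj e (hK hg) (hPS x.2)]

theorem Corr.autGroup_map (h : Corr e E E') {P : Subgroup Ω} {P' : Subgroup Ω'} (hP : P ≤ T)
    (hPS : P ≤ S) (hh : sub e P = P') :
    (E.autGroup P).map (MulAut.congr (isoTo hPS hh)).toMonoidHom = E'.autGroup P' := by
  ext β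
  obtain ⟨α, rfl⟩ := (MulAut.congr (isoTo hPS hh)).surjective β
  exact (Subgroup.mem_map_equiv (f := MulAut.congr (isoTo hPS hh))).trans
    (by rw [MulEquiv.symm_apply_apply, h.autGroup_iff hP hPS hh])

theorem Corr.autInducedBy_map (h : Corr e E E') {P : Subgroup Ω} (hPS : P ≤ S) :
    (Cfsg.autInducedBy T P).map (MulAut.congr (isoTo (e := e) hPS rfl)).toMonoidHom =
      Cfsg.autInducedBy T' (sub e P) := by
  ext β
  obtain ⟨α, rfl⟩ := (MulAut.congr (isoTo (e := e) hPS rfl)).surjective β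
  refine (Subgroup.mem_map_equiv (f := MulAut.congr (isoTo (e := e) hPS rfl))).trans ?_
  rw [MulEquiv.symm_apply_apply, h.eq, autInducedBy_iff h.le hPS rfl]

/-! ### Saturation -/

theorem Corr.finite (h : Corr e E E') [Finite T] : Finite T' := by
  rw [h.eq]
  exact Finite.of_equiv _ (isoTo (e := e) h.le rfl).toEquiv

theorem Corr.isPGroup (h : Corr e E E') {p : ℕ} (hT : IsPGroup p T) : IsPGroup p T' := by
  rw [h.eq]
  exact hT.of_equiv (isoTo (e := e) h.le rfl)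

theorem Corr.fullyAutomized (h : Corr e E E') [Finite T] {p : ℕ} [Fact p.Prime] (hT : IsPGroup p T)
    {P : Subgroup Ω} (hP : E.IsFullyAutomized p P) : E'.IsFullyAutomized p (sub e P) := by
  haveI := h.finite
  rw [isFullyAutomized_iff hT] at hP
  rw [isFullyAutomized_iff (h.isPGroup hT)]
  refine ⟨h.eq ▸ sub_mono hP.1, ?_⟩
  rw [← h.autInducedBy_map (hP.1.trans h.le), ← h.autGroup_map hP.1 (hP.1.trans h.le) rfl,
    Subgroup.relIndex_map_map_of_injective (f := (MulAut.congr (isoTo (hP.1.trans h.le) rfl)).toMonoidHom) _ _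
      (MulEquiv.injective _)]
  exact hP.2

theorem Corr.receptive (h : Corr e E E') {Q : Subgroup Ω} (hQ : E.IsReceptive Q) :
    E'.IsReceptive (sub e Q) := by
  refine ⟨h.eq ▸ sub_mono hQ.1, fun P' φ' hφ' hr => ?_⟩
  obtain ⟨P, hP, rfl⟩ := exists_sub h.le (h.eq ▸ hom_le E' hφ' : P' ≤ sub e T)
  obtain ⟨φ, hφ, hrel⟩ := h.hom_back hP hφ'
  have hPS := hP.trans h.le
  have hφS : ∀ x, φ x ∈ S := fun x => h.le (hom_mem E hφ x)
  have hr' : φ.range = Q := sub_inj (e := e) ((range_le E hφ).trans h.le) (hQ.1.trans h.le)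
    (by rw [← rel_range hPS hφS hrel, hr])
  obtain ⟨ψ, hψ, hψe⟩ := hQ.2 P φ hφ hr'
  obtain ⟨ψ', hψ', hrel'⟩ := h.hom hψ
  have hN : extender T' (sub e P) φ' ≤ sub e (extender T P φ) := by
    intro g' hg'
    obtain ⟨hg'T, hg'N, k', hk', hk⟩ := mem_extender_iff.1 hg'
    rw [h.eq] at hg'T hk'
    obtain ⟨g, hg, hgS, rfl⟩ := mem_sub.1 hg'T
    obtain ⟨k, hkT, hkS, rfl⟩ := mem_sub.1 hk'
    have hgN := (mem_normalizer_tf hPS hgS).1 hg'N
    refine mem_sub.2 ⟨g, mem_extender_iff.2 ⟨hg, hgN, k, hkT, fun x hx => ?_⟩, hgS, rfl⟩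
    refine tf_inj e (hφS _) (S.mul_mem (S.mul_mem hkS (hφS x)) (S.inv_mem hkS)) ?_
    rw [tf_conj e hkS (hφS x), ← hrel x (tf_mem_sub hPS x.2),
      ← hrel ⟨g * x * g⁻¹, hx⟩ (tf_mem_sub hPS hx)]
    have hx'' : tf e g * tf e x * (tf e g)⁻¹ ∈ sub e P := by
      rw [← tf_conj e hgS (hPS x.2)]; exact tf_mem_sub hPS hx
    rw [← hk ⟨tf e x, tf_mem_sub hPS x.2⟩ hx'']
    exact congrArg φ' (Subtype.ext (tf_conj e hgS (hPS x.2)))
  refine ⟨ψ'.comp (Subgroup.inclusion hN), restrict_mem E' hψ' hN, fun y hyP hyN => ?_⟩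
  obtain ⟨x, hx, hxS, rfl⟩ := mem_sub.1 hyP
  have hxN : x ∈ extender T P φ := of_tf_mem_sub hxS (hN hyN)
  exact ((hrel' ⟨x, hxN⟩ (hN hyN)).trans (congrArg (tf e) (hψe x hx hxN))).trans (hrel ⟨x, hx⟩ hyP).symm

theorem Corr.saturated (h : Corr e E E') [Finite T] {p : ℕ} [Fact p.Prime] (hT : IsPGroup p T)
    (hE : E.IsSaturated p) : E'.IsSaturated p := by
  intro P' hP'
  obtain ⟨P, hP, rfl⟩ := exists_sub h.le (h.eq ▸ hP' : P' ≤ sub e T)
  obtain ⟨Q, hPQ, hQa, hQr⟩ := hE P hP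
  exact ⟨sub e Q, h.isConj hPQ, h.fullyAutomized hT hQa, h.receptive hQr⟩

/-! ### Subsystems, normal subsystems -/

theorem Corr.stronglyClosed (h : Corr e E E') {R : Subgroup Ω} (hR : E.StronglyClosed R) :
    E'.StronglyClosed (sub e R) := by
  refine ⟨h.eq ▸ sub_mono hR.1, fun P' hP' φ' hφ' y => ?_⟩
  obtain ⟨P, hP, rfl⟩ := exists_sub (hR.1.trans h.le) hP'
  obtain ⟨φ, hφ, hrel⟩ := h.hom_back (hP.trans hR.1) hφ'
  obtain ⟨x, hx, hxS, hxy⟩ := mem_sub.1 y.2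
  have e1 : y = ⟨tf e x, hxy ▸ y.2⟩ := Subtype.ext hxy.symm
  rw [e1, hrel ⟨x, hx⟩]
  exact tf_mem_sub (hR.1.trans h.le) (hR.2 P hP φ hφ _)

variable {U : Subgroup Ω} {U' : Subgroup Ω'} {D : Cfsg.FusionSystem U} {D' : Cfsg.FusionSystem U'}

theorem Corr.isSubsystemOf (h : Corr e E E') (hD : Corr e D D') (hle : D.IsSubsystemOf E) :
    D'.IsSubsystemOf E' := by
  intro P' φ' hφ'
  obtain ⟨P, hP, rfl⟩ := exists_sub hD.le (hD.eq ▸ hom_le D' hφ' : P' ≤ sub e U)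
  obtain ⟨φ, hφ, hrel⟩ := hD.hom_back hP hφ'
  have hE := hle P hφ
  exact (h.iff (hom_le E hE) (hom_mem E hE) hrel).2 hE

theorem Corr.invariant (h : Corr e E E') (hD : Corr e D D') (hi : D.IsInvariantIn E) :
    D'.IsInvariantIn E' := by
  obtain ⟨hle, hsc, hinv, hfr⟩ := hi
  have hUS := hD.le
  have hU' : U' = sub e U := hD.eq
  subst hU'
  refine ⟨h.isSubsystemOf hD hle, h.stronglyClosed hsc, ?_, ?_⟩
  · intro P' hP'U φ' hφ' β hβ
    obtain ⟨P, hP, rfl⟩ := exists_sub hUS hP'U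
    obtain ⟨φ, hφ, hrel⟩ := hD.hom_back hP hφ'
    obtain ⟨α, rfl⟩ := (MulAut.congr (isoTo (e := e) hUS rfl)).surjective β
    rw [h.autGroup_iff hsc.1 hUS rfl] at hβ
    obtain ⟨χ, hχ, hχe⟩ := hinv P hP φ hφ α hβ
    obtain ⟨χ', hχ', hrelχ⟩ := hD.hom hχ
    have hP1S : (P.subgroupOf U).map (U.subtype.comp α.toMonoidHom) ≤ S := (hom_le D hχ).trans hUS
    have hbeta : ∀ (x : Ω) (hx : x ∈ U) (hx' : tf e x ∈ sub e U),
        ((MulAut.congr (isoTo (e := e) hUS rfl) α ⟨tf e x, hx'⟩ : sub e U) : Ω') = tf e ((α ⟨x, hx⟩ : U) : Ω) :=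
      fun x hx _ => congrArg Subtype.val (congr_apply hUS rfl α ⟨x, hx⟩)
    have himg : ((sub e P).subgroupOf (sub e U)).map
        ((sub e U).subtype.comp (MulAut.congr (isoTo (e := e) hUS rfl) α).toMonoidHom) =
        sub e ((P.subgroupOf U).map (U.subtype.comp α.toMonoidHom)) := by
      ext z
      constructor
      · rintro ⟨⟨w, hw⟩, hwP, rfl⟩
        obtain ⟨x, hx, hxS, rfl⟩ := mem_sub.1 (hwP : w ∈ sub e P)
        refine mem_sub.2 ⟨_, ⟨⟨x, hP hx⟩, hx, rfl⟩, hUS (α ⟨x, hP hx⟩).2, ?_⟩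
        exact (hbeta x (hP hx) hw).symm
      · intro hz
        obtain ⟨_, ⟨⟨x, hxU⟩, hxP, rfl⟩, -, rfl⟩ := mem_sub.1 hz
        exact ⟨⟨tf e x, tf_mem_sub hUS hxU⟩, tf_mem_sub (hP.trans hUS) hxP, hbeta x hxU _⟩
    refine ⟨χ'.comp (Subgroup.inclusion himg.le), hom_congr_sub D' himg.symm hχ' (fun _ _ _ => rfl),
      fun w hφw hαw => ?_⟩
    obtain ⟨x, hx, hxS, hxw⟩ := mem_sub.1 w.2
    have hφU : φ ⟨x, hx⟩ ∈ U := hom_mem D hφ _
    have hα1 : ((α ⟨x, hP hx⟩ : U) : Ω) ∈ (P.subgroupOf U).map (U.subtype.comp α.toMonoidHom) :=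
      ⟨⟨x, hP hx⟩, hx, rfl⟩
    have hxU' : tf e x ∈ sub e U := tf_mem_sub hUS (hP hx)
    have e1 : χ ⟨_, hα1⟩ = ((α ⟨φ ⟨x, hx⟩, hφU⟩ : U) : Ω) := hχe ⟨x, hx⟩ hφU hα1
    have e2 : φ' w = tf e (φ ⟨x, hx⟩) :=
      (congrArg φ' (Subtype.ext hxw.symm : w = ⟨tf e x, tf_mem_sub (hP.trans hUS) hx⟩)).trans (hrel ⟨x, hx⟩ _)
    have e3 := hbeta (φ ⟨x, hx⟩) hφU (tf_mem_sub hUS hφU)
    have e4 := hbeta x (hP hx) hxU'
    have e5 := hrelχ ⟨_, hα1⟩ (tf_mem_sub hP1S hα1)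
    have lhs : (⟨((MulAut.congr (isoTo (e := e) hUS rfl) α ⟨(w : Ω'), hP'U w.2⟩ : sub e U) : Ω'),
        himg.le hαw⟩ : sub e ((P.subgroupOf U).map (U.subtype.comp α.toMonoidHom))) =
        ⟨tf e ((α ⟨x, hP hx⟩ : U) : Ω), tf_mem_sub hP1S hα1⟩ := by
      refine Subtype.ext (Eq.trans ?_ e4)
      exact congrArg (fun u => ((MulAut.congr (isoTo (e := e) hUS rfl) α u : sub e U) : Ω')) (Subtype.ext hxw.symm)
    refine ((congrArg χ' lhs).trans (e5.trans ((congrArg (tf e) e1).trans e3.symm))).trans ?_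
    exact congrArg (fun u => ((MulAut.congr (isoTo (e := e) hUS rfl) α u : sub e U) : Ω')) (Subtype.ext e2.symm)
  · intro P' hP'U φ' hφ'
    obtain ⟨P, hP, rfl⟩ := exists_sub hUS hP'U
    obtain ⟨φ, hφ, hrel⟩ := h.hom_back (hP.trans hsc.1) hφ'
    obtain ⟨α, hα, φ₀, hφ₀, hφe⟩ := hfr P hP φ hφ
    obtain ⟨φ₀', hφ₀', hrel₀⟩ := hD.hom hφ₀
    refine ⟨_, (h.autGroup_iff hsc.1 hUS rfl).2 hα, φ₀', hφ₀', fun w hw => ?_⟩
    obtain ⟨x, hx, hxS, hxw⟩ := mem_sub.1 w.2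
    have hφU : φ₀ ⟨x, hx⟩ ∈ U := hom_mem D hφ₀ _
    have ew : w = ⟨tf e x, tf_mem_sub (hP.trans hUS) hx⟩ := Subtype.ext hxw.symm
    have e2 : φ₀' w = tf e (φ₀ ⟨x, hx⟩) := (congrArg φ₀' ew).trans (hrel₀ ⟨x, hx⟩ _)
    calc φ' w = tf e (φ ⟨x, hx⟩) := (congrArg φ' ew).trans (hrel ⟨x, hx⟩ _)
      _ = tf e ((α ⟨φ₀ ⟨x, hx⟩, hφU⟩ : U) : Ω) := congrArg (tf e) (hφe ⟨x, hx⟩ hφU)
      _ = _ := (congrArg Subtype.val (congr_apply (e := e) hUS rfl α ⟨φ₀ ⟨x, hx⟩, hφU⟩)).symm.trans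
          (congrArg (fun u => ((MulAut.congr (isoTo (e := e) hUS rfl) α u : sub e U) : Ω'))
            (Subtype.ext e2.symm : isoTo (e := e) hUS rfl ⟨φ₀ ⟨x, hx⟩, hφU⟩ = (⟨φ₀' w, hw⟩ : sub e U)))

theorem Corr.weaklyNormal (h : Corr e E E') (hD : Corr e D D') [Finite T] {p : ℕ} [Fact p.Prime]
    (hT : IsPGroup p T) (hn : D.IsWeaklyNormalIn E p) : D'.IsWeaklyNormalIn E' p := by
  have hUT : U ≤ T := hn.2.2.2.1.1
  haveI : Finite U := finite_of_le hUT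
  exact ⟨hD.saturated (hT.to_le hUT) hn.1, h.saturated hT hn.2.1, h.invariant hD hn.2.2⟩

theorem Corr.normal (h : Corr e E E') (hD : Corr e D D') [Finite T] {p : ℕ} [Fact p.Prime]
    (hT : IsPGroup p T) (hn : D.IsNormalIn E p) : D'.IsNormalIn E' p := by
  refine ⟨h.weaklyNormal hD hT hn.1, ?_⟩
  have hsc := hn.1.2.2.2.1
  have hUS := hD.le
  intro β' hβ'
  have hU' : U' = sub e U := hD.eq
  subst hU'
  obtain ⟨α, rfl⟩ := (MulAut.congr (isoTo (e := e) hUS rfl)).surjective β'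
  rw [hD.autGroup_iff le_rfl hUS rfl] at hβ'
  obtain ⟨β, hβ, hβU, hβC⟩ := hn.2 α hβ'
  have hVT : U ⊔ centralizerIn T U ≤ T := sup_le hsc.1 (centralizerIn_le U)
  have hVS : U ⊔ centralizerIn T U ≤ S := hVT.trans h.le
  have hC : centralizerIn T' (sub e U) = sub e (centralizerIn T U) := by
    rw [h.eq, sub_centralizerIn h.le hUS]
  have hVe : sub e (U ⊔ centralizerIn T U) = sub e U ⊔ centralizerIn T' (sub e U) := by
    rw [hC, sub_sup hUS ((centralizerIn_le U).trans h.le)]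
  refine ⟨_, (h.autGroup_iff hVT hVS hVe).2 hβ, fun y => ?_, fun c hc => ?_⟩
  · obtain ⟨x, rfl⟩ := (isoTo (e := e) hUS rfl).surjective y
    have e1 : Subgroup.inclusion le_sup_left (isoTo (e := e) hUS rfl x) =
        isoTo hVS hVe (Subgroup.inclusion le_sup_left x) := Subtype.ext rfl
    rw [e1, congr_apply, congr_apply, isoTo_apply, isoTo_apply, hβU x]
  · obtain ⟨x, rfl⟩ := (isoTo hVS hVe).surjective c
    have hxC : (x : Ω) ∈ centralizerIn T U := of_tf_mem_sub (hVS x.2) (hC.le hc)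
    obtain ⟨h1, h2⟩ := hβC x hxC
    rw [congr_apply, isoTo_apply, isoTo_apply, ← tf_inv e (hVS x.2),
      ← tf_mul e (S.inv_mem (hVS x.2)) (hVS (β x).2)]
    refine ⟨tf_mem_sub hUS h1, fun z hz => ?_⟩
    obtain ⟨u, hu, huS, rfl⟩ := mem_sub.1 hz
    rw [← tf_mul e huS (hUS h1), ← tf_mul e (hUS h1) huS, h2 u hu]

/-! ### The transported system -/

theorem sub_symm_le {P' : Subgroup Ω'} (hT : T ≤ S) (hP' : P' ≤ sub e T) : sub e.symm P' ≤ T :=
  (sub_mono hP').trans (sub_symm_sub hT).le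

/-- The transport of `E` along `e`. -/
noncomputable def push (e : S ≃* S') (E : Cfsg.FusionSystem T) (hT : T ≤ S) :
    Cfsg.FusionSystem (sub e T) where
  Hom P' := {φ' | P' ≤ sub e T ∧ ∃ φ ∈ E.Hom (sub e.symm P'), ∀ (y : P')
    (h : tf e.symm (y : Ω') ∈ sub e.symm P'), φ' y = tf e (φ ⟨tf e.symm y, h⟩)}
  le_of_mem := by
    rintro P' φ' ⟨hP', φ, hφ, h⟩
    refine ⟨hP', fun y => ?_⟩
    rw [h y (tf_mem_sub (hP'.trans (sub_le T)) y.2)]
    exact tf_mem_sub hT (hom_mem E hφ _)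
  injective_of_mem := by
    rintro P' φ' ⟨hP', φ, hφ, h⟩ a b hab
    have hm : ∀ y : P', tf e.symm (y : Ω') ∈ sub e.symm P' := fun y => tf_mem_sub (hP'.trans (sub_le T)) y.2
    rw [h a (hm a), h b (hm b)] at hab
    have h1 := E.injective_of_mem hφ (tf_inj e (hT (hom_mem E hφ _)) (hT (hom_mem E hφ _)) hab)
    exact Subtype.ext (tf_inj e.symm (sub_le T (hP' a.2)) (sub_le T (hP' b.2)) (congrArg Subtype.val h1))
  conj_mem := by
    intro P' g' hP' hg'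
    obtain ⟨g, hg, hgS, rfl⟩ := mem_sub.1 hg'
    refine ⟨hP', _, E.conj_mem (sub_symm_le hT hP') hg, fun y hy => ?_⟩
    show tf e g * (y : Ω') * (tf e g)⁻¹ = tf e (g * tf e.symm y * g⁻¹)
    rw [tf_conj e hgS (tf_mem _ _), tf_tf_symm e (sub_le T (hP' y.2))]
  comp_mem := by
    rintro P' Q' φ' ψ' ⟨hP', φ, hφ, hφe⟩ ⟨hQ', ψ, hψ, hψe⟩ hmem
    have hm : ∀ x : sub e.symm P', φ x ∈ sub e.symm Q' := by
      rintro ⟨x, hx⟩
      obtain ⟨y, hy, hyS, rfl⟩ := mem_sub.1 hx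
      rw [← tf_symm_tf e (hT (hom_mem E hφ _)), ← hφe ⟨y, hy⟩ hx]
      exact tf_mem_sub (hQ'.trans (sub_le T)) (hmem _)
    refine ⟨hP', _, E.comp_mem hφ hψ hm, fun y hy => ?_⟩
    show ψ' ⟨φ' y, hmem y⟩ = tf e (ψ ⟨φ ⟨tf e.symm y, hy⟩, hm _⟩)
    rw [hψe _ (tf_mem_sub (hQ'.trans (sub_le T)) (hmem y))]
    refine congrArg (tf e) (congrArg ψ (Subtype.ext ?_))
    show tf e.symm (φ' y) = _
    rw [hφe y hy, tf_symm_tf e (hT (hom_mem E hφ _))]
  inv_mem := by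
    rintro P' φ' ⟨hP', φ, hφ, hφe⟩
    have hm : ∀ y : P', tf e.symm (y : Ω') ∈ sub e.symm P' := fun y => tf_mem_sub (hP'.trans (sub_le T)) y.2
    have hrange : φ'.range ≤ sub e T := by
      rintro _ ⟨y, rfl⟩
      rw [hφe y (hm y)]
      exact tf_mem_sub hT (hom_mem E hφ _)
    obtain ⟨ι, hι, hιr, hιφ, -⟩ := exists_inv E hφ rfl
    have hr : sub e.symm φ'.range ≤ φ.range := by
      intro x hx
      obtain ⟨_, ⟨y, rfl⟩, -, rfl⟩ := mem_sub.1 hx
      rw [hφe y (hm y), tf_symm_tf e (hT (hom_mem E hφ _))]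
      exact ⟨_, rfl⟩
    have hιS : ∀ z, ι z ∈ S := fun z => hT (hom_mem E hι z)
    let ι' : φ'.range →* Ω' := MonoidHom.mk'
      (fun z => tf e (ι (Subgroup.inclusion hr ⟨tf e.symm z, tf_mem_sub (hrange.trans (sub_le T)) z.2⟩)))
      fun a b => by
        rw [← tf_mul e (hιS _) (hιS _), ← map_mul, ← map_mul]
        exact congrArg (fun z => tf e (ι (Subgroup.inclusion hr z)))
          (Subtype.ext (tf_mul e.symm (sub_le T (hrange a.2)) (sub_le T (hrange b.2))))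
    refine ⟨ι', ⟨hrange, _, restrict_mem E hι hr, fun z hz => rfl⟩, fun y => ?_⟩
    show tf e (ι (Subgroup.inclusion hr _)) = (y : Ω')
    refine (congrArg (fun z => tf e (ι z)) (Subtype.ext ?_ : _ = (⟨φ ⟨tf e.symm y, hm y⟩, _, rfl⟩ : φ.range))).trans ?_
    · show tf e.symm (φ' y) = _
      rw [hφe y (hm y), tf_symm_tf e (hT (hom_mem E hφ _))]
    · show tf e (ι _) = _
      rw [hιφ ⟨tf e.symm y, hm y⟩ ⟨_, rfl⟩]
      exact tf_tf_symm e (sub_le T (hP' y.2))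

theorem corr_push (e : S ≃* S') (E : Cfsg.FusionSystem T) (hT : T ≤ S) : Corr e E (push e E hT) := by
  refine ⟨hT, rfl, fun {P φ φ'} hP hφT hrel => ?_⟩
  have hPS := hP.trans hT
  have hPP : sub e.symm (sub e P) = P := sub_symm_sub hPS
  constructor
  · rintro ⟨hP', ψ, hψ, hψe⟩
    refine hom_congr_sub E hPP hψ fun x hx hx' => ?_
    refine tf_inj e (hT (hφT _)) (hT (hom_mem E hψ _)) ?_
    have hm : tf e.symm (tf e x) ∈ sub e.symm (sub e P) := by rw [tf_symm_tf e (hPS hx')]; exact hx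
    rw [← hrel ⟨x, hx'⟩ (tf_mem_sub hPS hx'), hψe ⟨tf e x, tf_mem_sub hPS hx'⟩ hm]
    exact congrArg (fun z => tf e (ψ z)) (Subtype.ext (tf_symm_tf e (hPS hx')))
  · intro hφ
    refine ⟨sub_mono hP, _, restrict_mem E hφ hPP.le, fun y hy => ?_⟩
    refine Eq.trans ?_ (hrel ⟨tf e.symm y, hPP.le hy⟩ (tf_mem_sub hPS (hPP.le hy)))
    exact congrArg φ' (Subtype.ext (tf_tf_symm e (sub_le P y.2)).symm)

theorem Corr.hom_eq {D₁ D₂ : Cfsg.FusionSystem U'} (h₁ : Corr e D D₁) (h₂ : Corr e D D₂) (P' : Subgroup Ω') :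
    D₁.Hom P' ⊆ D₂.Hom P' := by
  intro φ' hφ'
  obtain ⟨P, hP, rfl⟩ := exists_sub h₁.le (h₁.eq ▸ hom_le D₁ hφ' : P' ≤ sub e U)
  obtain ⟨φ, hφ, hrel⟩ := h₁.hom_back hP hφ'
  exact (h₂.iff hP (hom_mem D hφ) hrel).2 hφ

theorem le_of_subnormal {p : ℕ} (h : D.IsSubnormalIn E p) : U ≤ T := by
  induction h with
  | refl => exact le_rfl
  | step _ h2 ih => exact ih.trans h2.1.2.2.2.1.1

theorem Corr.subnormal {p : ℕ} [hp0 : Fact p.Prime] (hsn : D.IsSubnormalIn E p) :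
    ∀ {T' : Subgroup Ω'} {E' : Cfsg.FusionSystem T'} {U' : Subgroup Ω'} {D' : Cfsg.FusionSystem U'},
      Corr e E E' → Corr e D D' → Finite T → IsPGroup p T → D'.IsSubnormalIn E' p := by
  revert hp0
  induction hsn with
  | refl F p =>
    intro _
    intro T' E' U' D' hF hD _ _
    have h1 := hF.eq
    have h2 := hD.eq
    subst h1
    subst h2
    have : D' = E' := by
      cases D'; cases E'
      congr 1
      funext P'
      exact Set.Subset.antisymm (hD.hom_eq hF P') (hF.hom_eq hD P')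
    rw [this]
    exact .refl _ _
  | @step U₁ S₁ E₁ D₁ F₁ q hED hDF ih =>
    intro _
    intro T' E' U' D' hF hD hfin hp
    have hsub : U₁ ≤ S₁ := hDF.1.2.2.2.1.1
    haveI := hfin
    have hmid := corr_push e D₁ (hsub.trans hF.le)
    exact .step (ih hmid hD (finite_of_le hsub) (hp.to_le hsub)) (hF.normal hmid hp hDF)

/-! ### Simple and quasisimple systems -/

theorem Corr.simple (h : Corr e E E') [Finite T] {p : ℕ} [Fact p.Prime] (hT : IsPGroup p T)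
    (hs : E.IsSimple p) : E'.IsSimple p := by
  obtain ⟨hsat, hne, hsimp⟩ := hs
  haveI := h.finite
  refine ⟨h.saturated hT hsat, fun h0 => hne ?_, fun R' D' hD' => ?_⟩
  · refine sub_inj (e := e) h.le bot_le ?_
    rw [← h.eq, h0, sub_bot]
  · have hR'S : R' ≤ S' := (hD'.1.2.2.2.1.1.trans h.eq.le).trans (sub_le T)
    have hc := corr_push e.symm D' hR'S
    rcases hsimp _ _ (h.symm.normal hc (h.isPGroup hT) hD') with h0 | ⟨h1, h2⟩
    · left
      rw [← sub_sub_symm (e := e) hR'S, h0, sub_bot]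
    · right
      have hR : R' = T' := by rw [← sub_sub_symm (e := e) hR'S, h1, h.eq]
      subst hR
      refine ⟨rfl, fun P' => ?_⟩
      ext φ'
      have hrange : ∀ {G : Cfsg.FusionSystem R'}, φ' ∈ G.Hom P' → P' ≤ R' ∧ ∀ x, φ' x ∈ R' :=
        fun hh => ⟨hom_le _ hh, hom_mem _ hh⟩
      by_cases hP' : P' ≤ R' ∧ ∀ x, φ' x ∈ R'
      swap
      · exact ⟨fun hh => absurd (hrange hh) hP', fun hh => absurd (hrange hh) hP'⟩
      have hrel := rel_pushHom (e := e.symm) (hP'.1.trans hR'S) φ' (fun x => hR'S (hP'.2 x))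
      rw [← h.symm.iff hP'.1 hP'.2 hrel, ← hc.iff hP'.1 hP'.2 hrel, h2]

theorem Corr.center_le (h : Corr e E E') : sub e E.center ≤ E'.center := by
  have hq : ∀ Q, E.IsCentral Q → E'.IsCentral (sub e Q) := by
    rintro Q ⟨hQT, hQ⟩
    refine ⟨h.eq ▸ sub_mono hQT, fun P' φ' hφ' => ?_⟩
    obtain ⟨P, hP, rfl⟩ := exists_sub h.le (h.eq ▸ hom_le E' hφ' : P' ≤ sub e T)
    obtain ⟨φ, hφ, hrel⟩ := h.hom_back hP hφ'
    obtain ⟨ψ, hψ, hψP, hψQ⟩ := hQ P φ hφ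
    obtain ⟨ψ', hψ', hrel'⟩ := h.hom hψ
    have hPS := hP.trans h.le
    have hQS := hQT.trans h.le
    refine ⟨ψ'.comp (Subgroup.inclusion (sub_sup hPS hQS).ge), restrict_mem E' hψ' _, fun y => ?_, fun y => ?_⟩
    · obtain ⟨x, rfl⟩ := (isoTo (e := e) hPS rfl).surjective y
      refine (hrel' (Subgroup.inclusion le_sup_left x) (tf_mem_sub (sup_le hPS hQS) (Subgroup.mem_sup_left x.2))).trans ?_
      rw [hψP]
      exact (hrel x (tf_mem_sub hPS x.2)).symm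
    · obtain ⟨x, rfl⟩ := (isoTo (e := e) hQS rfl).surjective y
      refine (hrel' (Subgroup.inclusion le_sup_right x) (tf_mem_sub (sup_le hPS hQS) (Subgroup.mem_sup_right x.2))).trans ?_
      rw [hψQ]
      rfl
  have h1 : E.center ≤ sub e.symm E'.center := by
    refine sSup_le fun Q hQ => ?_
    refine (sub_symm_sub (hQ.1.trans h.le)).symm.le.trans (sub_mono ?_)
    exact le_sSup (α := Subgroup Ω') (hq Q hQ)
  have h2 : E'.center ≤ S' := sSup_le fun Q hQ => (hQ.1.trans h.eq.le).trans (sub_le T)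
  exact (sub_mono h1).trans (sub_sub_symm h2).le

theorem center_le_base (E : Cfsg.FusionSystem T) : E.center ≤ T := sSup_le fun _ hQ => hQ.1

theorem Corr.center_eq (h : Corr e E E') : sub e E.center = E'.center := by
  refine le_antisymm h.center_le ?_
  have := sub_mono (e := e) h.symm.center_le
  rwa [sub_sub_symm ((center_le_base E').trans (h.eq.le.trans (sub_le T)))] at this

theorem Corr.hyperfocal_le (h : Corr e E E') {p : ℕ} :
    sub e (E.hyperfocalSubgroup p) ≤ E'.hyperfocalSubgroup p := by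
  have h1 : E.hyperfocalSubgroup p ≤ sub e.symm (sub e (E.hyperfocalSubgroup p) ⊓ E'.hyperfocalSubgroup p) := by
    refine (Subgroup.closure_le _).2 ?_
    rintro _ ⟨P, α, x, hP, hα, rfl⟩
    have hPS := hP.trans h.le
    have hy : ((x : Ω)⁻¹ * ((α : MulAut P) x : P)) ∈ S := S.mul_mem (S.inv_mem (hPS x.2)) (hPS ((α : MulAut P) x).2)
    refine mem_sub.2 ⟨tf e ((x : Ω)⁻¹ * ((α : MulAut P) x : P)), ⟨?_, ?_⟩, tf_mem e _, tf_symm_tf e hy⟩
    · exact mem_sub.2 ⟨_, Subgroup.subset_closure ⟨P, α, x, hP, hα, rfl⟩, hy, rfl⟩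
    let m : E.autGroup P →* E'.autGroup (sub e P) :=
      { toFun := fun β => ⟨MulAut.congr (isoTo (e := e) hPS rfl) β, (h.autGroup_iff hP hPS rfl).2 β.2⟩
        map_one' := Subtype.ext (map_one _)
        map_mul' := fun a b => Subtype.ext (map_mul _ (a : MulAut P) b) }
    have hm : m α ∈ Cfsg.pResidual p (E'.autGroup (sub e P)) := by
      refine (Subgroup.closure_le (K := (Cfsg.pResidual p (E'.autGroup (sub e P))).comap m)).2 ?_ hα
      intro β hβ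
      exact Subgroup.subset_closure (Nat.Coprime.coprime_dvd_left (orderOf_map_dvd m β) hβ)
    refine Subgroup.subset_closure ⟨sub e P, m α, isoTo (e := e) hPS rfl x, h.eq ▸ sub_mono hP, hm, ?_⟩
    show _ = (tf e x)⁻¹ * ((MulAut.congr (isoTo (e := e) hPS rfl) (α : MulAut P) (isoTo hPS rfl x) : sub e P) : Ω')
    rw [congr_apply, isoTo_apply, tf_mul e (S.inv_mem (hPS x.2)) (hPS ((α : MulAut P) x).2), tf_inv e (hPS x.2)]
  refine (sub_mono h1).trans ((sub_sub_symm ?_).le.trans inf_le_right)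
  exact inf_le_left.trans (sub_le _)

theorem Corr.quasisimple (h : Corr e E E') [Finite T] {p : ℕ} [Fact p.Prime] (hT : IsPGroup p T)
    (hq : E.Quasisimple p) : E'.Quasisimple p := by
  obtain ⟨hsat, hhyp, hfac⟩ := hq
  haveI := h.finite
  refine ⟨h.saturated hT hsat, ?_, fun G' hG' => ?_⟩
  · refine le_antisymm ?_ ?_
    · refine (Subgroup.closure_le _).2 ?_
      rintro _ ⟨P, α, x, hP, -, rfl⟩
      exact T'.mul_mem (T'.inv_mem (hP x.2)) (hP ((α : MulAut P) x).2)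
    · conv_lhs => rw [h.eq, ← hhyp]
      exact h.hyperfocal_le
  set Z := (E.center).subgroupOf T with hZ
  set Z' := (E'.center).subgroupOf T' with hZ'
  set eT : T ≃* T' := isoTo h.le h.eq.symm with heT
  have hmap : Z.map eT.toMonoidHom = Z' := by
    ext y
    obtain ⟨x, rfl⟩ := eT.surjective y
    refine (Subgroup.mem_map_equiv (f := eT)).trans ?_
    rw [MulEquiv.symm_apply_apply, hZ, hZ', Subgroup.mem_subgroupOf, Subgroup.mem_subgroupOf, ← h.center_eq]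
    exact ⟨fun hx => tf_mem_sub ((center_le_base E).trans h.le) hx, fun hx => of_tf_mem_sub (h.le x.2) hx⟩
  let q : T ⧸ Z ≃* T' ⧸ Z' := QuotientGroup.congr Z Z' eT hmap
  let e2 : (⊤ : Subgroup (T ⧸ Z)) ≃* (⊤ : Subgroup (T' ⧸ Z')) :=
    Subgroup.topEquiv.trans (q.trans Subgroup.topEquiv.symm)
  have hq2 : ∀ t : T ⧸ Z, tf e2 t = q t := fun t => by rw [tf_of_mem e2 (Subgroup.mem_top t)]; rfl
  have hqmk : ∀ x : T, q (QuotientGroup.mk' Z x) = QuotientGroup.mk' Z' (eT x) := fun x => rfl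
  have htop : sub e2 ⊤ = ⊤ := sub_top_eq
  let G : Cfsg.FusionSystem (⊤ : Subgroup (T ⧸ Z)) :=
    { Hom := (push e2.symm G' le_rfl).Hom
      le_of_mem := fun hh => ⟨le_top, fun _ => Subgroup.mem_top _⟩
      injective_of_mem := (push e2.symm G' le_rfl).injective_of_mem
      conj_mem := fun {P g} _ _ => (push e2.symm G' le_rfl).conj_mem
        (le_top.trans (sub_top_eq (e := e2.symm)).ge) ((sub_top_eq (e := e2.symm)).ge (Subgroup.mem_top g))
      comp_mem := (push e2.symm G' le_rfl).comp_mem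
      inv_mem := (push e2.symm G' le_rfl).inv_mem }
  have hG : Corr e2 G G' := by
    have h0 := (corr_push e2.symm G' le_rfl).symm
    exact ⟨le_rfl, htop.symm, fun {P φ φ'} hP hφ hrel =>
      h0.iff (le_top.trans (sub_top_eq (e := e2.symm)).ge) (fun x => (sub_top_eq (e := e2.symm)).ge (hφ x)) hrel⟩
  have hfacG : E.IsFactorSystem E.center (QuotientGroup.mk' Z) G := by
    refine ⟨center_le_base E, fun x => QuotientGroup.eq_one_iff x,
      MonoidHom.range_eq_top.2 (QuotientGroup.mk'_surjective Z), fun P φ => ?_⟩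
    have hpre : sub e (preimageAlong (QuotientGroup.mk' Z) P) = preimageAlong (QuotientGroup.mk' Z') (sub e2 P) := by
      ext y
      constructor
      · intro hy
        obtain ⟨_, ⟨x, hx, rfl⟩, -, rfl⟩ := mem_sub.1 hy
        refine ⟨eT x, ?_, rfl⟩
        show QuotientGroup.mk' Z' (eT x) ∈ sub e2 P
        rw [← hqmk, ← hq2]
        exact tf_mem_sub le_top hx
      · rintro ⟨y, hy, rfl⟩
        obtain ⟨x, rfl⟩ := eT.surjective y
        refine mem_sub.2 ⟨x, ⟨x, ?_, rfl⟩, h.le x.2, rfl⟩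
        show QuotientGroup.mk' Z x ∈ P
        have hy' : QuotientGroup.mk' Z' (eT x) ∈ sub e2 P := hy
        rw [← hqmk, ← hq2] at hy'
        exact of_tf_mem_sub (Subgroup.mem_top _) hy'
    have hrel0 := rel_pushHom (e := e2) (le_top : P ≤ ⊤) φ (fun _ => Subgroup.mem_top _)
    rw [← hG.iff le_top (fun _ => Subgroup.mem_top _) hrel0, hG'.2.2.2]
    constructor
    · rintro ⟨-, ψ', hψ', hi, hi2, hi3, hind⟩
      refine ⟨le_top, ?_⟩
      have hψ'' : ψ'.comp (Subgroup.inclusion hpre.le) ∈ E'.Hom _ := restrict_mem E' hψ' hpre.le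
      have hpT : preimageAlong (QuotientGroup.mk' Z) P ≤ T := Subgroup.map_subtype_le _
      obtain ⟨ψ, hψ, hrelψ⟩ := h.hom_back hpT hψ''
      refine ⟨ψ, hψ, hpT, hom_mem E hψ, fun x => ?_, fun x => ?_⟩
      · obtain ⟨z, hz, hzx⟩ := x.2
        have e0 : z = ⟨(x : Ω), hpT x.2⟩ := Subtype.ext hzx
        exact e0 ▸ hz
      · have hm := tf_mem_sub (e := e) (hpT.trans h.le) x.2
        have h1 := hind ⟨tf e x, hpre.le hm⟩
        have h2 : ψ' ⟨tf e x, hpre.le hm⟩ = tf e (ψ x) := hrelψ x hm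
        have hxP : QuotientGroup.mk' Z ⟨x, hpT x.2⟩ ∈ P := by
          obtain ⟨z, hz, hzx⟩ := x.2
          have e0 : z = ⟨(x : Ω), hpT x.2⟩ := Subtype.ext hzx
          exact e0 ▸ hz
        apply q.injective
        rw [hqmk, ← hq2 (φ _)]
        refine ((hrel0 ⟨_, hxP⟩ (tf_mem_sub le_top hxP)).symm.trans ?_).trans
          (congrArg (QuotientGroup.mk' Z') ((Subtype.ext h2 : (⟨ψ' ⟨tf e x, hpre.le hm⟩, hi2 _⟩ : T') = eT ⟨ψ x, hom_mem E hψ x⟩)))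
        refine Eq.trans ?_ h1
        exact congrArg _ (Subtype.ext ((hq2 _).trans (hqmk _)))
    · rintro ⟨-, ψ, hψ, hi, hi2, hi3, hind⟩
      refine ⟨le_top, ?_⟩
      obtain ⟨ψ', hψ', hrelψ⟩ := h.hom hψ
      refine ⟨ψ'.comp (Subgroup.inclusion hpre.ge), restrict_mem E' hψ' hpre.ge, ?_⟩
      have hi' : preimageAlong (QuotientGroup.mk' Z') (sub e2 P) ≤ T' := Subgroup.map_subtype_le _
      refine ⟨hi', fun y => hom_mem E' hψ' _, fun y => ?_, fun y => ?_⟩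
      · obtain ⟨z, hz, hzy⟩ := y.2
        have e0 : z = ⟨(y : Ω'), hi' y.2⟩ := Subtype.ext hzy
        exact e0 ▸ hz
      · obtain ⟨x, hx, hxS, hxy⟩ := mem_sub.1 (hpre.ge y.2)
        have ey : (⟨(y : Ω'), hi' y.2⟩ : T') = eT ⟨x, hi hx⟩ := Subtype.ext hxy.symm
        have h3 : ψ' (Subgroup.inclusion hpre.ge y) = tf e (ψ ⟨x, hx⟩) :=
          (congrArg ψ' (Subtype.ext hxy.symm)).trans (hrelψ ⟨x, hx⟩ (tf_mem_sub (hi.trans h.le) hx))
        have hxP : QuotientGroup.mk' Z ⟨x, hi hx⟩ ∈ P := hi3 ⟨x, hx⟩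
        refine Eq.trans ?_ (congrArg (QuotientGroup.mk' Z')
          (Subtype.ext h3.symm : eT ⟨ψ ⟨x, hx⟩, hi2 ⟨x, hx⟩⟩ = ⟨_, _⟩))
        rw [← hqmk, ← hind ⟨x, hx⟩, ← hq2]
        refine Eq.trans ?_ (hrel0 ⟨_, hxP⟩ (tf_mem_sub le_top hxP))
        exact congrArg _ (Subtype.ext ((congrArg (QuotientGroup.mk' Z') ey).trans ((hq2 _).trans (hqmk _)).symm))
  have hTq : IsPGroup p (⊤ : Subgroup (T ⧸ Z)) := ((hT.to_quotient Z)).to_subgroup ⊤
  exact hG.simple hTq (hfac G hfacG)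

theorem Corr.component (h : Corr e E E') (hD : Corr e D D') [Finite T] {p : ℕ} [Fact p.Prime]
    (hT : IsPGroup p T) (hc : D.IsComponentIn E p) : D'.IsComponentIn E' p := by
  have hUT := le_of_subnormal hc.1
  haveI : Finite U := finite_of_le hUT
  exact ⟨Corr.subnormal hc.1 h hD inferInstance hT, hD.quasisimple (hT.to_le hUT) hc.2⟩

end CfsgLib.Fus.Transport
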