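import Cfsg.Agent.Fusion.Alperin.Theorem
import Cfsg.Agent.Fus.NormalOverSylow

/-!
Comparison of two subsystems over the same subgroup, one saturated and one invariant.
-/

set_option autoImplicit false

namespace CfsgLib.Fus

open Cfsg Cfsg.FusionSystem CfsgLib.Fusion.Alperin

variable {Ω : Type*} [Group Ω] {S T : Subgroup Ω} {p : ℕ} [Fact p.Prime]

/-- A saturated subsystem `E` over `T` lies in an invariant subsystem `E'` over `T` as soon as it
does so at `T`. -/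
theorem hom_mem_of_invariant [Finite T] (hTp : IsPGroup p T) {F : Cfsg.FusionSystem S}
    {E E' : Cfsg.FusionSystem T} (hE : E.IsSaturated p) (hEF : E.IsSubsystemOf F)
    (hE' : E'.IsInvariantIn F) (hT : E.autGroup T ≤ E'.autGroup T)
    {P : Subgroup Ω} {φ : P →* Ω} (hφ : φ ∈ E.Hom P) : φ ∈ E'.Hom P := by
  induction hn : Nat.card T - Nat.card P using Nat.strong_induction_on generalizing P with
  | _ n ih =>
  have hPT := hom_le E hφ
  by_cases htop : P = T
  · subst htop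
    have hr : φ.range = P :=
      Subgroup.eq_of_le_of_card_ge (range_le E hφ) (isConj_card (isConj_of_hom E hφ)).le
    exact hom_congr E' ((mem_autGroup_iff E' le_rfl).1 (hT (isoOf_mem_autGroup hφ hr)))
      fun x => rfl
  have big : ∀ {R : Subgroup Ω} {ψ : R →* Ω}, ψ ∈ E.Hom R →
      Nat.card P < Nat.card R → ψ ∈ E'.Hom R := by
    intro R ψ hψ hlt
    have : Nat.card R ≤ Nat.card T := Subgroup.card_le_of_le (hom_le E hψ)
    exact ih (Nat.card T - Nat.card R) (by omega) hψ rfl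
  obtain ⟨Q, hPQ, hQ⟩ := exists_fullyNormalized E hPT
  have move : ∀ {R : Subgroup Ω}, E.IsConj P R → E.IsConj R Q →
      ∃ χ ∈ E.Hom R, χ.range = Q ∧ χ ∈ E'.Hom R := by
    intro R hPR hRQ
    have hR := isConj_le_right hPR
    obtain ⟨χ, hχ, hχr, ψ, hψ, hψe⟩ := exists_normalizer_map_fn hTp hE hQ hRQ
    have hne : R ≠ T := fun hc =>
      htop (Subgroup.eq_of_le_of_card_ge hPT (by rw [isConj_card hPR, hc]))
    obtain ⟨g, hg, hgR⟩ := exists_normalizing_not_mem hTp hR hne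
    have hlt := card_lt_of_le_of_mem (normalizerIn_le R) (le_normalizerIn hR) hg hgR
    exact ⟨χ, hχ, hχr, hom_restrict E' (big hψ (isConj_card hPR ▸ hlt)) (le_normalizerIn hR)
      fun x => (hψe x _).symm⟩
  have hQT : Q ≤ T := hQ.1
  have hQne : Q ≠ T := fun hc =>
    htop (Subgroup.eq_of_le_of_card_ge hPT (by rw [isConj_card hPQ, hc]))
  have : Finite Q := finite_of_le hQT
  have : Finite (MulAut Q) := finite_mulAut Q
  set D := (E'.autGroup Q).subgroupOf (E.autGroup Q) with hD'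
  have : D.Normal := by
    refine ⟨fun k hk α => ?_⟩
    have hhom := hEF Q ((mem_autGroup_iff E hQT).1 α.2)
    have h := NormalOverSylow.congr_mem_of_invariant hE' hQT hhom (range_subtype_comp _) hk
    rw [congr_subtype_comp hhom] at h
    exact h
  obtain ⟨⟨-, U, hU⟩, -⟩ := fullyNormalized_props hTp hE hQ
  have hUD : (U : Subgroup (E.autGroup Q)) ≤ D := by
    rw [hU]
    exact fun a ha => autInducedBy_le_autGroup E' hQT ha
  have hnorm : Subgroup.normalizer ((U : Subgroup (E.autGroup Q)) : Set (E.autGroup Q)) ≤ D := by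
    intro α hα
    obtain ⟨g, hg, hgQ⟩ := exists_normalizing_not_mem hTp hQT hQne
    have hgU : (⟨conjAut hg.2, autInducedBy_le_autGroup E hQT
        (conjAut_mem_autInducedBy hg.2 hg.1)⟩ : E.autGroup Q) ∈ (U : Subgroup (E.autGroup Q)) := by
      rw [hU]
      exact conjAut_mem_autInducedBy hg.2 hg.1
    have h2 := (Subgroup.mem_normalizer_iff.1 hα _).1 hgU
    rw [hU] at h2
    obtain ⟨M, hQM, ψ, hψ, hlt, he⟩ := exists_extend_aut hTp hE hQ α.2 hg.1 hg.2 hgQ h2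
    have h1 := restrict_mem E' (big hψ (isConj_card hPQ ▸ hlt)) hQM
    rw [he] at h1
    exact mem_autGroup_of_mem E' h1
  have hD : D = ⊤ := top_unique ((Sylow.normalizer_sup_eq_top' U hUD).ge.trans (sup_le hnorm le_rfl))
  obtain ⟨χ, hχ, hχr, hχC⟩ := move (isConj_refl E hPT) hPQ
  obtain ⟨χ', hχ', hχ'r, hχ'C⟩ := move (isConj_of_hom E hφ)
    (isConj_trans (isConj_symm (isConj_of_hom E hφ)) hPQ)
  obtain ⟨ξ, hξ, -, hξl, -⟩ := exists_inv E hχ hχr
  have hm1 : ∀ q : Q, ξ q ∈ P := fun q => by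
    obtain ⟨x, hx⟩ : (q : Ω) ∈ χ.range := hχr.symm ▸ q.2
    have : ξ q = x := by
      rw [← hξl x (hx ▸ q.2)]; congr 1; exact Subtype.ext hx.symm
    rw [this]; exact x.2
  have h1 : ∀ x : P, φ x ∈ φ.range := fun x => ⟨x, rfl⟩
  let β : Q →* Ω := χ'.comp ((φ.codRestrict φ.range h1).comp (ξ.codRestrict P hm1))
  have hβ : β ∈ E.Hom Q :=
    hom_of_comp E (E.comp_mem hξ hφ hm1) hχ' (fun q => ⟨_, rfl⟩) fun q => rfl
  have hβr : β.range = Q := by
    refine Subgroup.eq_of_le_of_card_ge ?_ (isConj_card (isConj_of_hom E hβ)).le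
    rintro _ ⟨q, rfl⟩
    exact hχ'r.le ⟨_, rfl⟩
  have hβC : β ∈ E'.Hom Q := by
    have : (⟨_, isoOf_mem_autGroup hβ hβr⟩ : E.autGroup Q) ∈ D := hD ▸ Subgroup.mem_top _
    exact hom_congr E' ((mem_autGroup_iff E' hQT).1 this) fun _ => rfl
  obtain ⟨η, hη, -, hηl, -⟩ := exists_inv E' hχ'C hχ'r
  have h3 := E'.comp_mem hχC hβC fun x => hχr.le ⟨x, rfl⟩
  have hmem : ∀ x : P, β ⟨χ x, hχr.le ⟨x, rfl⟩⟩ ∈ Q := fun x => hβr.le ⟨_, rfl⟩
  refine hom_congr E' (E'.comp_mem h3 hη hmem) fun x => ?_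
  have hx : χ x ∈ Q := hχr.le ⟨x, rfl⟩
  have e : ξ ⟨χ x, hx⟩ = (x : Ω) := hξl x hx
  show φ x = η ⟨χ' ⟨φ ⟨ξ ⟨χ x, hx⟩, _⟩, _⟩, _⟩
  exact (congrArg φ (Subtype.ext e.symm)).trans (hηl ⟨_, _, rfl⟩ _).symm

end CfsgLib.Fus
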