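import Cfsg.Agent.Fus.TwoSimple

/-!
A criterion for the `2`-fusion system of a group to be simple: the centre of a Sylow subgroup has one
nontrivial element `z`, its closure under fusion is the whole Sylow subgroup, and the centralizer of
`z` is generated by `2`-elements normalizing a self-centralizing subgroup.
-/

set_option autoImplicit false

namespace CfsgLib.Fus.CentralInvolution

open Cfsg Cfsg.FusionSystem CfsgLib.Fus

variable {G : Type*} [Group G] [Finite G]

theorem isSimple (S : Sylow 2 G) {z : G} {R : Subgroup G}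
    (hzS : z ∈ (S : Subgroup G)) (hz1 : z ≠ 1)
    (hzc : ∀ s ∈ (S : Subgroup G), s * z = z * s)
    (huniq : ∀ x ∈ (S : Subgroup G), (∀ s ∈ (S : Subgroup G), s * x = x * s) → x = 1 ∨ x = z)
    (hRS : R ≤ (S : Subgroup G)) (hRn : (S : Subgroup G) ≤ Subgroup.normalizer (R : Set G))
    (hRc : Subgroup.centralizer (R : Set G) ≤ R)
    (hgen : ∀ g : G, g * z = z * g → g ∈ Subgroup.closure
      {a : G | a ∈ Subgroup.normalizer (R : Set G) ∧ ∃ k : ℕ, orderOf a = 2 ^ k})
    (hclosed : ∀ T : Subgroup G, T ≤ (S : Subgroup G) → z ∈ T →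
      (∀ g x, x ∈ T → g * x * g⁻¹ ∈ (S : Subgroup G) → g * x * g⁻¹ ∈ T) → (S : Subgroup G) ≤ T) :
    (Cfsg.groupFusionSystem (S : Subgroup G)).IsSimple 2 := by
  have : Fact (Nat.Prime 2) := ⟨Nat.prime_two⟩
  have hS1 : (S : Subgroup G) ≠ ⊥ := fun h => hz1 (by rw [h] at hzS; exact Subgroup.mem_bot.1 hzS)
  refine NormalOverSylow.isSimple_of_generated S (isSaturated_group S) hS1 ?_ ?_
  · intro T hT
    by_cases hT1 : T = ⊥
    · exact Or.inl hT1
    have hcl : ∀ g x, x ∈ T → g * x * g⁻¹ ∈ (S : Subgroup G) → g * x * g⁻¹ ∈ T := by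
      intro g x hx hgx
      have hle : Subgroup.zpowers x ≤ (S : Subgroup G) := (Subgroup.zpowers_le.2 hx).trans hT.1
      have hmem : Cfsg.conjHom (Subgroup.zpowers x) g ∈
          (Cfsg.groupFusionSystem (S : Subgroup G)).Hom (Subgroup.zpowers x) := by
        refine NormalOverSylow.conjHom_mem_group hle ?_
        rintro _ ⟨k, rfl⟩
        show g * x ^ k * g⁻¹ ∈ (S : Subgroup G)
        rw [← conj_zpow]
        exact Subgroup.zpow_mem _ hgx k
      exact hT.2 _ (Subgroup.zpowers_le.2 hx) _ hmem ⟨x, Subgroup.mem_zpowers x⟩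
    obtain ⟨w, hwT, hw1, hwc⟩ := TwoSimple.exists_central_mem S.isPGroup' hT.1 hT1
      fun s hs x hx => hcl s x hx
        ((S : Subgroup G).mul_mem ((S : Subgroup G).mul_mem hs (hT.1 hx)) ((S : Subgroup G).inv_mem hs))
    rw [(huniq w (hT.1 hwT) hwc).resolve_left hw1] at hwT
    exact Or.inr (le_antisymm hT.1 (hclosed T hT.1 hwT hcl))
  · have hfn : (Cfsg.groupFusionSystem (S : Subgroup G)).IsFullyNormalized R := by
      refine ⟨hRS, fun Q _ => Subgroup.card_le_of_le ?_⟩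
      exact le_inf inf_le_left (inf_le_left.trans hRn)
    have hce : (Cfsg.groupFusionSystem (S : Subgroup G)).IsCentric R := by
      refine ⟨hRS, ?_⟩
      rintro Q ⟨φ, ⟨-, -, g, hg⟩, rfl⟩ x ⟨-, hx⟩
      have h1 : g⁻¹ * x * g ∈ Subgroup.centralizer (R : Set G) := by
        intro r hr
        have h2 := hx (φ ⟨r, hr⟩) ⟨⟨r, hr⟩, rfl⟩
        rw [hg] at h2
        calc r * (g⁻¹ * x * g) = g⁻¹ * ((g * r * g⁻¹) * x) * g := by group
          _ = g⁻¹ * (x * (g * r * g⁻¹)) * g := by rw [h2]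
          _ = g⁻¹ * x * g * r := by group
      exact ⟨⟨_, hRc h1⟩, by rw [hg]; group⟩
    refine le_trans ?_ (le_iSup₂_of_le R ⟨hfn, hce⟩ le_rfl)
    intro α hα
    obtain ⟨g, -, hg⟩ := mem_autInducedBy_iff.1 hα
    have hgS := mem_normalizer_of_aut hg
    have hgz : g * z * g⁻¹ = z := by
      refine (huniq _ ((Subgroup.mem_normalizer_iff.1 hgS z).1 hzS) fun s hs => ?_).resolve_left
        fun h => hz1 (conj_eq_one_iff.1 h)
      have hs' : g⁻¹ * s * g ∈ (S : Subgroup G) := (Subgroup.mem_normalizer_iff''.1 hgS s).1 hs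
      calc s * (g * z * g⁻¹) = g * ((g⁻¹ * s * g) * z) * g⁻¹ := by group
        _ = g * (z * (g⁻¹ * s * g)) * g⁻¹ := by rw [hzc _ hs']
        _ = g * z * g⁻¹ * s := by group
    exact mem_autInducedBy_iff.2 ⟨g, hgen g (mul_inv_eq_iff_eq_mul.1 hgz), hg⟩

end CfsgLib.Fus.CentralInvolution
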