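import Cfsg.Agent.Fus.InvariantCompare
import Cfsg.Agent.Fus.CentricMaps
import Cfsg.Agent.Fusion.Alperin.Criteria
import Cfsg.Agent.Fus.GroupNormal
import Cfsg.Agent.CharP.PCore
import Mathlib.GroupTheory.Transfer
import Mathlib.Data.Nat.ChineseRemainder

/-!
Normal subsystems of the fusion system of a strictly `p`-constrained group come from normal
subgroups.
-/

set_option autoImplicit false

namespace CfsgLib.Fus.StrictlyConstrained

open Cfsg Cfsg.FusionSystem CfsgLib.Fus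

variable {G : Type*} [Group G] {p : ℕ}

/-- The elements acting trivially on `Q` modulo the normal subgroup `R`. -/
def trivMod (R Q : Subgroup G) [R.Normal] : Subgroup G :=
  (Subgroup.centralizer ((Q.map (QuotientGroup.mk' R) : Subgroup (G ⧸ R)) : Set (G ⧸ R))).comap
    (QuotientGroup.mk' R)

theorem mem_trivMod {R Q : Subgroup G} [R.Normal] {g : G} :
    g ∈ trivMod R Q ↔ ∀ q ∈ Q, g * q * g⁻¹ * q⁻¹ ∈ R := by
  constructor
  · intro hg q hq
    apply (QuotientGroup.eq_one_iff _).1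
    change QuotientGroup.mk' R (g * q * g⁻¹ * q⁻¹) = 1
    rw [map_mul, map_mul, map_mul, map_inv, map_inv, ← hg _ ⟨q, hq, rfl⟩]
    group
  · rintro h _ ⟨q, hq, rfl⟩
    have h1 : QuotientGroup.mk' R (g * q * g⁻¹ * q⁻¹) = 1 := (QuotientGroup.eq_one_iff _).2 (h q hq)
    rw [map_mul, map_mul, map_mul, map_inv, map_inv, mul_inv_eq_one, mul_inv_eq_iff_eq_mul] at h1
    exact h1.symm

instance trivMod_normal (R Q : Subgroup G) [R.Normal] [Q.Normal] : (trivMod R Q).Normal :=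
  ⟨fun n hn g => mem_trivMod.2 fun q hq => by
    have h := mem_trivMod.1 hn (g⁻¹ * q * g) (by
      simpa using Subgroup.Normal.conj_mem (H := Q) inferInstance q hq g⁻¹)
    have h2 := Subgroup.Normal.conj_mem (H := R) inferInstance _ h g
    convert h2 using 1
    group⟩

/-- An element of order prime to `p` moving `q` by an element `d` it fixes modulo `R`, with `d` of
`p`-power order, fixes `q` modulo `R`. -/
theorem coprime_step [Finite G] [Fact p.Prime] {R : Subgroup G} [R.Normal] {g q d : G}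
    (hg : (orderOf g).Coprime p) (hdp : ∃ n, d ^ p ^ n = 1) (hd : g * q * g⁻¹ * q⁻¹ = d)
    (hfix : g * d * g⁻¹ * d⁻¹ ∈ R) : d ∈ R := by
  obtain ⟨n, hn⟩ := hdp
  set f := QuotientGroup.mk' R
  have e1 : f g * f q * (f g)⁻¹ = f d * f q := by
    rw [← hd]
    simp only [map_mul, map_inv]
    group
  have e2 : Commute (f g) (f d) := by
    have h : f (g * d * g⁻¹ * d⁻¹) = 1 := (QuotientGroup.eq_one_iff _).2 hfix
    simp only [map_mul, map_inv] at h
    exact mul_inv_eq_iff_eq_mul.1 (mul_inv_eq_one.1 h)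
  have e3 : ∀ j : ℕ, (f g) ^ j * f q * ((f g) ^ j)⁻¹ = (f d) ^ j * f q := by
    intro j
    induction j with
    | zero => simp
    | succ j ih =>
      calc (f g) ^ (j + 1) * f q * ((f g) ^ (j + 1))⁻¹
          = f g * ((f g) ^ j * f q * ((f g) ^ j)⁻¹) * (f g)⁻¹ := by rw [pow_succ']; group
        _ = (f g * (f d) ^ j * (f g)⁻¹) * (f g * f q * (f g)⁻¹) := by rw [ih]; group
        _ = _ := by rw [(e2.pow_right j).eq, mul_inv_cancel_right, e1, pow_succ, mul_assoc]
  have e4 := e3 (orderOf g)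
  rw [← map_pow, pow_orderOf_eq_one, map_one, one_mul, inv_one, mul_one, eq_comm,
    mul_eq_right] at e4
  have h1 : orderOf (f d) ∣ Nat.gcd (orderOf g) (p ^ n) :=
    Nat.dvd_gcd (orderOf_dvd_of_pow_eq_one e4)
      ((orderOf_map_dvd f d).trans (orderOf_dvd_of_pow_eq_one hn))
  rw [Nat.Coprime.gcd_eq_one (hg.pow_right n), Nat.dvd_one, orderOf_eq_one_iff] at h1
  exact (QuotientGroup.eq_one_iff d).1 h1

/-- A power of an element is its `p'`-part or its `p`-part. -/
theorem exists_parts [Finite G] [Fact p.Prime] (g : G) :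
    ∃ e₁ e₂ : ℕ, g = g ^ e₁ * g ^ e₂ ∧ (∃ n, (g ^ e₁) ^ p ^ n = 1) ∧
      (orderOf (g ^ e₂)).Coprime p := by
  obtain ⟨v, m, hm, hn⟩ :=
    Nat.exists_eq_pow_mul_and_not_dvd (orderOf_pos g).ne' p (Fact.out : p.Prime).ne_one
  have hco : Nat.Coprime (p ^ v) m :=
    Nat.Coprime.pow_left v ((Fact.out : p.Prime).coprime_iff_not_dvd.2 hm)
  obtain ⟨e₁, h₁, h₁'⟩ := Nat.chineseRemainder hco 1 0
  obtain ⟨e₂, h₂, h₂'⟩ := Nat.chineseRemainder hco 0 1
  have hsum : e₁ + e₂ ≡ 1 [MOD orderOf g] := by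
    rw [hn]
    exact (Nat.modEq_and_modEq_iff_modEq_mul hco).1 ⟨h₁.add h₂, h₁'.add h₂'⟩
  refine ⟨e₁, e₂, ?_, ⟨v, ?_⟩, ?_⟩
  · rw [← pow_add, pow_eq_pow_iff_modEq.2 hsum, pow_one]
  · rw [← pow_mul, pow_eq_one_iff_modEq, hn]
    exact (Nat.modEq_and_modEq_iff_modEq_mul hco).1
      ⟨by simpa using (Nat.ModEq.refl (p ^ v)).mul_left e₁ |>.trans (by
        rw [Nat.modEq_zero_iff_dvd]; exact dvd_mul_left _ _), by simpa using h₁'.mul_right (p ^ v)⟩
  · have h : (g ^ e₂) ^ m = 1 := by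
      rw [← pow_mul, pow_eq_one_iff_modEq, hn]
      exact (Nat.modEq_and_modEq_iff_modEq_mul hco).1
        ⟨by simpa using h₂.mul_right m, Nat.modEq_zero_iff_dvd.2 (dvd_mul_left _ _)⟩
    exact Nat.Coprime.of_dvd_left (orderOf_dvd_of_pow_eq_one h)
      ((Fact.out : p.Prime).coprime_iff_not_dvd.2 hm).symm

/-- Two elements of coprime orders agreeing modulo a normal subgroup lie in it. -/
theorem mem_of_coprime_parts [Finite G] [Fact p.Prime] {N : Subgroup G} [N.Normal] {k x : G}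
    (hk : (orderOf k).Coprime p) (hx : ∃ n, x ^ p ^ n = 1) (h : k⁻¹ * x ∈ N) : k ∈ N := by
  obtain ⟨n, hn⟩ := hx
  set f := QuotientGroup.mk' N
  have e : f k = f x := (QuotientGroup.eq (s := N)).2 h
  have h1 : orderOf (f k) ∣ Nat.gcd (orderOf k) (p ^ n) :=
    Nat.dvd_gcd (orderOf_map_dvd f k)
      (e ▸ (orderOf_map_dvd f x).trans (orderOf_dvd_of_pow_eq_one hn))
  rw [Nat.Coprime.gcd_eq_one (hk.pow_right n), Nat.dvd_one, orderOf_eq_one_iff] at h1
  exact (QuotientGroup.eq_one_iff k).1 h1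

variable [Finite G] [Fact p.Prime] {S : Sylow p G}

theorem conj_mem_of_stronglyClosed {T : Subgroup G}
    (hT : (Cfsg.groupFusionSystem (S : Subgroup G)).StronglyClosed T) {g x : G} (hx : x ∈ T)
    (h : g * x * g⁻¹ ∈ (S : Subgroup G)) : g * x * g⁻¹ ∈ T := by
  have hmem : Cfsg.conjHom (Subgroup.zpowers x) g ∈
      (Cfsg.groupFusionSystem (S : Subgroup G)).Hom (Subgroup.zpowers x) := by
    refine ⟨Subgroup.zpowers_le.2 (hT.1 hx), ?_, g, fun y => rfl⟩
    rintro ⟨_, i, rfl⟩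
    show g * x ^ i * g⁻¹ ∈ (S : Subgroup G)
    rw [← conj_zpow]
    exact Subgroup.zpow_mem _ h i
  exact hT.2 _ (Subgroup.zpowers_le.2 hx) _ hmem ⟨x, Subgroup.mem_zpowers x⟩

theorem inf_pCore_normal {T : Subgroup G}
    (hT : (Cfsg.groupFusionSystem (S : Subgroup G)).StronglyClosed T) :
    (T ⊓ Cfsg.pCore p G).Normal := by
  refine ⟨fun x hx g => ?_⟩
  have h := (Cfsg.pCore_normal p G).conj_mem x hx.2 g
  exact ⟨conj_mem_of_stronglyClosed hT hx.1 (CharP.pCore_le_sylow S h), h⟩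

/-- The data attached to a normal subsystem. -/
structure Setup (S : Sylow p G) (T R : Subgroup G) (E : Cfsg.FusionSystem T) : Prop where
  constrained : Subgroup.centralizer ((Cfsg.pCore p G : Subgroup G) : Set G) ≤ Cfsg.pCore p G
  le : T ≤ (S : Subgroup G)
  normalIn : E.IsNormalIn (Cfsg.groupFusionSystem (S : Subgroup G)) p
  eq : R = T ⊓ Cfsg.pCore p G

variable {T R : Subgroup G} [R.Normal] {E : Cfsg.FusionSystem T}

/-- The elements inducing maps of `E` on `R` and acting trivially on `O_p(G)` modulo `R`. -/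
def bigK (p : ℕ) (R : Subgroup G) [R.Normal] {T : Subgroup G} (E : Cfsg.FusionSystem T) :
    Subgroup G :=
  (E.autGroup R).comap MulAut.conjNormal ⊓ trivMod R (Cfsg.pCore p G)

/-- The candidate normal subgroup. -/
def bigH (p : ℕ) (R : Subgroup G) [R.Normal] {T : Subgroup G} (E : Cfsg.FusionSystem T) :
    Subgroup G :=
  Subgroup.closure ({y : G | ∃ g : G, ∃ t ∈ T, g * t * g⁻¹ = y} ∪
    {k : G | k ∈ bigK p R E ∧ (orderOf k).Coprime p})

theorem conjNormal_eq_conjAut (g : G) (hg : g ∈ Subgroup.normalizer (R : Set G)) :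
    MulAut.conjNormal g = conjAut hg :=
  MulEquiv.ext fun x => Subtype.ext (MulAut.conjNormal_apply g x)

namespace Setup

variable (h : Setup S T R E)
include h

theorem hT : (Cfsg.groupFusionSystem (S : Subgroup G)).StronglyClosed T := h.normalIn.1.2.2.2.1

theorem invariant : E.IsInvariantIn (Cfsg.groupFusionSystem (S : Subgroup G)) := h.normalIn.1.2.2

theorem saturated : E.IsSaturated p := h.normalIn.1.1

theorem sub : E.IsSubsystemOf (Cfsg.groupFusionSystem (S : Subgroup G)) := h.invariant.1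

theorem tp : IsPGroup p T := S.isPGroup'.to_le h.le

theorem R_le_T : R ≤ T := h.eq.le.trans inf_le_left

theorem R_le_Q : R ≤ Cfsg.pCore p G := h.eq.le.trans inf_le_right

theorem Q_le_S : Cfsg.pCore p G ≤ (S : Subgroup G) := CharP.pCore_le_sylow S

theorem mem_R {x : G} (hx : x ∈ T) (hx' : x ∈ Cfsg.pCore p G) : x ∈ R := h.eq ▸ ⟨hx, hx'⟩

theorem conj_T {s t : G} (hs : s ∈ (S : Subgroup G)) (ht : t ∈ T) : s * t * s⁻¹ ∈ T :=
  conj_mem_of_stronglyClosed h.hT ht
    (Subgroup.mul_mem _ (Subgroup.mul_mem _ hs (h.le ht)) (Subgroup.inv_mem _ hs))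

theorem T_trivMod : T ≤ trivMod R (Cfsg.pCore p G) := by
  intro t ht
  refine mem_trivMod.2 fun q hq => h.mem_R ?_ ?_
  · have e : t * q * t⁻¹ * q⁻¹ = t * (q * t⁻¹ * q⁻¹) := by group
    rw [e]
    exact T.mul_mem ht (h.conj_T (h.Q_le_S hq) (T.inv_mem ht))
  · exact Subgroup.mul_mem _ ((Cfsg.pCore_normal p G).conj_mem q hq t) (Subgroup.inv_mem _ hq)

/-- A normal subgroup acting trivially on `O_p(G)/R` and by `p`-elements on `R` is a `p`-group. -/
theorem le_pCore_of_series {L : Subgroup G} [L.Normal]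
    (hL : L ≤ trivMod R (Cfsg.pCore p G))
    (hLR : ∀ l ∈ L, ∃ n : ℕ, ∀ r ∈ R, l ^ p ^ n * r = r * l ^ p ^ n) : L ≤ Cfsg.pCore p G := by
  refine CharP.le_pCore inferInstance fun l => ?_
  obtain ⟨n, hn⟩ := hLR l l.2
  set g := (l : G) ^ p ^ n
  obtain ⟨a, ha⟩ := IsPGroup.iff_card.1 (h.tp.to_le h.R_le_T)
  have hc : g ^ p ^ a ∈ Subgroup.centralizer ((Cfsg.pCore p G : Subgroup G) : Set G) := by
    intro q hq
    have hd : g * q * g⁻¹ * q⁻¹ ∈ R := mem_trivMod.1 (hL (L.pow_mem l.2 _)) q hq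
    set d := g * q * g⁻¹ * q⁻¹ with hdd
    have e : ∀ j : ℕ, g ^ j * q * (g ^ j)⁻¹ = d ^ j * q := by
      intro j
      induction j with
      | zero => simp
      | succ j ih =>
        calc g ^ (j + 1) * q * (g ^ (j + 1))⁻¹ = g * (g ^ j * q * (g ^ j)⁻¹) * g⁻¹ := by
              rw [pow_succ']; group
          _ = (g * d ^ j) * q * g⁻¹ := by rw [ih]; group
          _ = d ^ j * g * q * g⁻¹ := by rw [hn _ (R.pow_mem hd j)]
          _ = d ^ (j + 1) * q := by rw [pow_succ, hdd]; group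
    have hd1 : d ^ p ^ a = 1 := by
      rw [← ha]
      exact congrArg Subtype.val (pow_card_eq_one' (x := (⟨d, hd⟩ : R)))
    have e2 := e (p ^ a)
    rw [hd1, one_mul, mul_inv_eq_iff_eq_mul] at e2
    exact e2.symm
  obtain ⟨m, hm⟩ := CharP.isPGroup_pCore (p := p) ⟨_, h.constrained hc⟩
  refine ⟨n + (a + m), Subtype.ext ?_⟩
  show (l : G) ^ p ^ (n + (a + m)) = 1
  rw [pow_add, pow_mul, pow_add, pow_mul]
  exact congrArg Subtype.val hm

theorem centralizer_trivMod_le :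
    Subgroup.centralizer (R : Set G) ⊓ trivMod R (Cfsg.pCore p G) ≤ Cfsg.pCore p G := by
  have := Cfsg.pCore_normal p G
  exact h.le_pCore_of_series inf_le_right fun l hl => ⟨0, fun r hr => by
    rw [pow_zero, pow_one]; exact (hl.1 r hr).symm⟩

theorem isConj_R {P : Subgroup G} (hc : E.IsConj R P) : P = R := by
  obtain ⟨φ, hφ, rfl⟩ := hc
  obtain ⟨-, -, g, hg⟩ := h.sub R hφ
  refine Subgroup.eq_of_le_of_card_ge ?_ (isConj_card (isConj_of_hom E hφ)).le
  rintro _ ⟨x, rfl⟩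
  rw [hg]
  exact Subgroup.Normal.conj_mem (H := R) inferInstance _ x.2 g

theorem centric_R : E.IsCentric R := by
  refine ⟨h.R_le_T, fun P hP => ?_⟩
  rw [h.isConj_R hP]
  exact fun t ht => h.mem_R ht.1 (h.centralizer_trivMod_le ⟨ht.2, h.T_trivMod ht.1⟩)

theorem fullyNormalized_R : E.IsFullyNormalized R :=
  ⟨h.R_le_T, fun P hP => (h.isConj_R hP) ▸ le_rfl⟩

theorem autInducedBy_eq {t : G} (ht : t ∈ T) : MulAut.conjNormal t ∈ E.autGroup R :=
  autInducedBy_le_autGroup E h.R_le_T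
    (mem_autInducedBy_iff.2 ⟨t, ht, fun x => MulAut.conjNormal_apply t x⟩)

theorem conj_autGroup (g : G) {α : MulAut R} (hα : α ∈ E.autGroup R) :
    MulAut.conjNormal g * α * (MulAut.conjNormal g)⁻¹ ∈ E.autGroup R := by
  have hR : R ≤ (S : Subgroup G) := h.R_le_T.trans h.le
  have hhom : R.subtype.comp (MulAut.conjNormal g : MulAut R).toMonoidHom ∈
      (Cfsg.groupFusionSystem (S : Subgroup G)).Hom R :=
    ⟨hR, fun x => hR ((MulAut.conjNormal g : MulAut R) x).2, g,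
      fun x => MulAut.conjNormal_apply g x⟩
  have h1 := NormalOverSylow.congr_mem_of_invariant h.invariant h.R_le_T hhom
    (range_subtype_comp _) hα
  rwa [Fusion.Alperin.congr_subtype_comp hhom] at h1

theorem autGroup_exists {α : MulAut R} (hα : α ∈ E.autGroup R) :
    ∃ g : G, MulAut.conjNormal g = α := by
  obtain ⟨-, -, g, hg⟩ := h.sub R ((mem_autGroup_iff E h.R_le_T).1 hα)
  exact ⟨g, MulEquiv.ext fun x => Subtype.ext ((MulAut.conjNormal_apply g x).trans (hg x).symm)⟩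

theorem bigK_normal : (bigK p R E).Normal := by
  have := Cfsg.pCore_normal p G
  refine ⟨fun k hk g => ⟨?_, (trivMod_normal R (Cfsg.pCore p G)).conj_mem k hk.2 g⟩⟩
  show MulAut.conjNormal (g * k * g⁻¹) ∈ E.autGroup R
  rw [map_mul, map_mul, map_inv]
  exact h.conj_autGroup g hk.1

theorem T_le_bigK : T ≤ bigK p R E := fun t ht => ⟨h.autInducedBy_eq ht, h.T_trivMod ht⟩

theorem bigH_le_bigK : bigH p R E ≤ bigK p R E := by
  rw [bigH, Subgroup.closure_le]
  rintro y (⟨g, t, ht, rfl⟩ | hy)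
  · exact h.bigK_normal.conj_mem _ (h.T_le_bigK ht) g
  · exact hy.1

theorem bigH_normal : (bigH p R E).Normal := by
  refine ⟨fun n hn g => ?_⟩
  have hle : (bigH p R E).map (MulAut.conj g).toMonoidHom ≤ bigH p R E := by
    rw [bigH, MonoidHom.map_closure, Subgroup.closure_le]
    rintro _ ⟨y, (⟨k, t, ht, rfl⟩ | hy), rfl⟩
    · exact Subgroup.subset_closure (Or.inl ⟨g * k, t, ht, by simp [mul_assoc]⟩)
    · refine Subgroup.subset_closure (Or.inr ⟨h.bigK_normal.conj_mem _ hy.1 g, ?_⟩)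
      rw [show orderOf ((MulAut.conj g).toMonoidHom y) = orderOf y from
        MulEquiv.orderOf_eq (MulAut.conj g) y]
      exact hy.2
  exact hle ⟨n, hn, rfl⟩

theorem T_le_bigH : T ≤ bigH p R E := fun t ht =>
  Subgroup.subset_closure (Or.inl ⟨1, t, ht, by simp⟩)

theorem fullyAutomized_R : ∃ U : Sylow p (E.autGroup R),
    (U : Subgroup (E.autGroup R)) = (Cfsg.autInducedBy T R).subgroupOf (E.autGroup R) := by
  have : Finite T := inferInstance
  exact (fullyNormalized_props h.tp h.saturated h.fullyNormalized_R).1.2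

/-- An automorphism of `R` in `E` induced by an element of `O_p(G)` is inner. -/
theorem inner_of_mem {q : G} (hq : q ∈ Cfsg.pCore p G)
    (hA : MulAut.conjNormal q ∈ E.autGroup R) :
    ∃ t ∈ R, ∀ r ∈ R, q * r * q⁻¹ = t * r * t⁻¹ := by
  have hQn := Cfsg.pCore_normal p G
  obtain ⟨U, hU⟩ := h.fullyAutomized_R
  set B := ((Cfsg.pCore p G).map (MulAut.conjNormal : G →* MulAut R)).subgroupOf (E.autGroup R)
    with hB
  have hBn : B.Normal := by
    refine ⟨fun b hb a => ?_⟩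
    obtain ⟨g, hg⟩ := h.autGroup_exists a.2
    obtain ⟨y, hy, hyb⟩ := hb
    refine ⟨g * y * g⁻¹, hQn.conj_mem y hy g, ?_⟩
    rw [map_mul, map_mul, map_inv, hg, hyb]
    rfl
  have hBp : IsPGroup p B :=
    (((CharP.isPGroup_pCore).map _).comap_subtype)
  have hBU : B ≤ (U : Subgroup (E.autGroup R)) := by
    obtain ⟨W, hW⟩ := hBp.exists_le_sylow
    obtain ⟨c, hc⟩ := MulAction.exists_smul_eq (E.autGroup R) W U
    intro b hb
    rw [← hc, Sylow.coe_subgroup_smul, Subgroup.mem_pointwise_smul_iff_inv_smul_mem]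
    exact hW (by simpa using hBn.conj_mem b hb c⁻¹)
  have hmem : (⟨_, hA⟩ : E.autGroup R) ∈ (U : Subgroup (E.autGroup R)) := hBU ⟨q, hq, rfl⟩
  rw [hU] at hmem
  obtain ⟨t, ht, htr⟩ := mem_autInducedBy_iff.1 hmem
  have hqt : ∀ r ∈ R, q * r * q⁻¹ = t * r * t⁻¹ := fun r hr =>
    (MulAut.conjNormal_apply q ⟨r, hr⟩).symm.trans (htr ⟨r, hr⟩)
  set L := (((Cfsg.pCore p G).map (MulAut.conjNormal : G →* MulAut R) ⊓ E.autGroup R).comap
    MulAut.conjNormal) ⊓ trivMod R (Cfsg.pCore p G) with hL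
  have : L.Normal := by
    refine ⟨fun l hl g => ⟨⟨?_, ?_⟩, (trivMod_normal R (Cfsg.pCore p G)).conj_mem l hl.2 g⟩⟩
    · obtain ⟨y, hy, hyl⟩ := hl.1.1
      exact ⟨g * y * g⁻¹, hQn.conj_mem y hy g, by simp only [map_mul, map_inv, hyl]⟩
    · show MulAut.conjNormal (g * l * g⁻¹) ∈ E.autGroup R
      rw [map_mul, map_mul, map_inv]
      exact h.conj_autGroup g hl.1.2
  have hLQ : L ≤ Cfsg.pCore p G := by
    refine h.le_pCore_of_series inf_le_right fun l hl => ?_
    obtain ⟨y, hy, hyl⟩ := hl.1.1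
    obtain ⟨n, hn⟩ := CharP.isPGroup_pCore (p := p) ⟨y, hy⟩
    refine ⟨n, fun r hr => ?_⟩
    have e : MulAut.conjNormal (l ^ p ^ n) = (1 : MulAut R) := by
      rw [map_pow, ← hyl, ← map_pow, show y ^ p ^ n = 1 from congrArg Subtype.val hn, map_one]
    have e2 : l ^ p ^ n * r * (l ^ p ^ n)⁻¹ = r := by
      rw [← MulAut.conjNormal_apply (H := R) _ ⟨r, hr⟩, e]
      rfl
    exact mul_inv_eq_iff_eq_mul.1 e2
  refine ⟨t, h.mem_R ht (hLQ ⟨⟨⟨q, hq, ?_⟩, h.autInducedBy_eq ht⟩, h.T_trivMod ht⟩), hqt⟩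
  exact MulEquiv.ext fun x => Subtype.ext
    ((MulAut.conjNormal_apply q x).trans ((hqt x x.2).trans (MulAut.conjNormal_apply t x).symm))

/-- An automorphism of `T` in `E` of order prime to `p` is induced by an element of `bigH`. -/
theorem lift_top_coprime {α : MulAut T} (hα : α ∈ E.autGroup T) (hαp : (orderOf α).Coprime p) :
    ∃ g ∈ bigH p R E, ∀ x : T, ((α x : T) : G) = g * (x : G) * g⁻¹ := by
  have hQn := Cfsg.pCore_normal p G
  set C := centralizerIn (S : Subgroup G) T with hC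
  obtain ⟨β, hβ, hβα, hβC⟩ := h.normalIn.2 α hα
  have hP : T ⊔ C ≤ (S : Subgroup G) := sup_le h.le inf_le_left
  obtain ⟨g, hg⟩ := (mem_autGroup_group_iff hP).1 hβ
  have hgα : ∀ x : T, ((α x : T) : G) = g * (x : G) * g⁻¹ := fun x =>
    (hβα x).symm.trans (hg _)
  have hgpow : ∀ (j : ℕ) (x : T), (((α ^ j) x : T) : G) = g ^ j * (x : G) * (g ^ j)⁻¹ := by
    intro j
    induction j with
    | zero => intro x; simp
    | succ j ih =>
      intro x
      rw [pow_succ', MulAut.mul_apply, hgα, ih, pow_succ']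
      group
  have hgC : ∀ (j : ℕ), ∀ c ∈ C, g ^ j * c * (g ^ j)⁻¹ ∈ C ∧
      c⁻¹ * (g ^ j * c * (g ^ j)⁻¹) ∈ T ⊓ Subgroup.centralizer (T : Set G) := by
    intro j
    induction j with
    | zero => intro c hc; simp [hc]
    | succ j ih =>
      intro c hc
      obtain ⟨h1, h2⟩ := ih c hc
      have h3 := hβC ⟨_, le_sup_right (a := T) h1⟩ h1
      rw [hg] at h3
      set c' := g ^ j * c * (g ^ j)⁻¹ with hc'
      have e : g ^ (j + 1) * c * (g ^ (j + 1))⁻¹ = g * c' * g⁻¹ := by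
        rw [hc', pow_succ']; group
      rw [e]
      have h4 : g * c' * g⁻¹ = c' * (c'⁻¹ * (g * c' * g⁻¹)) := by group
      refine ⟨h4 ▸ C.mul_mem h1 ⟨h.le h3.1, h3.2⟩, ?_⟩
      have e2 : c⁻¹ * (g * c' * g⁻¹) = c⁻¹ * c' * (c'⁻¹ * (g * c' * g⁻¹)) := by group
      rw [e2]
      exact Subgroup.mul_mem _ h2 h3
  obtain ⟨v, m, hm, hn⟩ :=
    Nat.exists_eq_pow_mul_and_not_dvd (orderOf_pos g).ne' p (Fact.out : p.Prime).ne_one
  have hco : Nat.Coprime (p ^ v) m :=
    Nat.Coprime.pow_left v ((Fact.out : p.Prime).coprime_iff_not_dvd.2 hm)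
  have hαm : orderOf α ∣ m := by
    have h1 : α ^ orderOf g = 1 := MulEquiv.ext fun x => Subtype.ext (by
      rw [hgpow, pow_orderOf_eq_one]; simp)
    exact (hαp.pow_right v).dvd_of_dvd_mul_left (hn ▸ orderOf_dvd_of_pow_eq_one h1)
  obtain ⟨k, hk₀, hk₁⟩ := Nat.chineseRemainder hco 0 1
  have hαk : α ^ k = α := by
    conv_rhs => rw [← pow_one α]
    exact pow_eq_pow_iff_modEq.2 (hk₁.of_dvd hαm)
  set g₁ := g ^ k with hg₁
  have hg₁m : g₁ ^ m = 1 := by
    rw [hg₁, ← pow_mul, pow_eq_one_iff_modEq, hn]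
    exact (Nat.modEq_and_modEq_iff_modEq_mul hco).1
      ⟨by simpa using hk₀.mul_right m, Nat.modEq_zero_iff_dvd.2 (dvd_mul_left _ _)⟩
  have hg₁p : (orderOf g₁).Coprime p := Nat.Coprime.of_dvd_left (orderOf_dvd_of_pow_eq_one hg₁m)
    ((Fact.out : p.Prime).coprime_iff_not_dvd.2 hm).symm
  have hg₁α : ∀ x : T, ((α x : T) : G) = g₁ * (x : G) * g₁⁻¹ := fun x => by
    conv_lhs => rw [← hαk]
    exact hgpow k x
  set a := MulAut.conjNormal (H := R) g₁ with ha
  have haA : a ∈ E.autGroup R := by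
    refine mem_autGroup_of_apply E
      (restrict_mem E ((mem_autGroup_iff E le_rfl).1 hα) h.R_le_T) fun x => ?_
    exact (MulAut.conjNormal_apply g₁ x).trans (hg₁α (Subgroup.inclusion h.R_le_T x)).symm
  have pel : ∀ {d : G}, d ∈ Cfsg.pCore p G → ∃ n, d ^ p ^ n = 1 := fun {d} hd => by
    obtain ⟨n, hn⟩ := CharP.isPGroup_pCore (p := p) ⟨d, hd⟩
    exact ⟨n, congrArg Subtype.val hn⟩
  have trans : ∀ {q l : G}, g₁ * l * g₁⁻¹ * l⁻¹ ∈ R → ∀ {r : G}, r ∈ R → q = r * l →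
      g₁ * q * g₁⁻¹ * q⁻¹ ∈ R := by
    rintro q l hl r hr rfl
    have e : g₁ * (r * l) * g₁⁻¹ * (r * l)⁻¹ =
        (g₁ * r * g₁⁻¹) * (g₁ * l * g₁⁻¹ * l⁻¹) * r⁻¹ := by group
    rw [e]
    exact R.mul_mem (R.mul_mem (Subgroup.Normal.conj_mem (H := R) inferInstance r hr g₁) hl)
      (R.inv_mem hr)
  have level3 : ∀ l ∈ Cfsg.pCore p G, l ∈ Subgroup.centralizer (T : Set G) →
      g₁ * l * g₁⁻¹ * l⁻¹ ∈ R := by
    intro l hl hlT
    have h1 := (hgC k l ⟨h.Q_le_S hl, hlT⟩).2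
    have h2 : l⁻¹ * (g₁ * l * g₁⁻¹) ∈ R :=
      h.mem_R h1.1 (Subgroup.mul_mem _ (Subgroup.inv_mem _ hl) (hQn.conj_mem l hl g₁))
    have e : g₁ * l * g₁⁻¹ * l⁻¹ = l * (l⁻¹ * (g₁ * l * g₁⁻¹)) * l⁻¹ := by group
    rw [e]
    exact Subgroup.Normal.conj_mem (H := R) inferInstance _ h2 l
  have level2 : ∀ u ∈ Cfsg.pCore p G, u ∈ Subgroup.centralizer (R : Set G) →
      g₁ * u * g₁⁻¹ * u⁻¹ ∈ R := by
    intro u hu huR
    set d := g₁ * u * g₁⁻¹ * u⁻¹ with hd
    have hdQ : d ∈ Cfsg.pCore p G :=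
      Subgroup.mul_mem _ (hQn.conj_mem u hu g₁) (Subgroup.inv_mem _ hu)
    have hdR : d ∈ Subgroup.centralizer (R : Set G) :=
      Subgroup.mul_mem _ (Subgroup.Normal.conj_mem inferInstance u huR g₁) (Subgroup.inv_mem _ huR)
    have huN : u ∈ Subgroup.normalizer (T : Set G) :=
      Fusion.Alperin.le_normalizer_of_stronglyClosed h.hT (h.Q_le_S hu)
    have hγ : conjAut huN ∈ (Cfsg.groupFusionSystem (S : Subgroup G)).autGroup T :=
      (mem_autGroup_group_iff h.le).2 ⟨u, fun x => rfl⟩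
    have hhom := (mem_autGroup_iff _ h.le).1 hγ
    have hc := NormalOverSylow.congr_mem_of_invariant h.invariant le_rfl hhom
      (range_subtype_comp _) ((E.autGroup T).inv_mem hα)
    rw [Fusion.Alperin.congr_subtype_comp hhom] at hc
    set δ := α * (conjAut huN * α⁻¹ * (conjAut huN)⁻¹) with hδ
    have hδE : δ ∈ E.autGroup T := mul_mem hα hc
    have hδd : ∀ y : T, ((δ y : T) : G) = d * (y : G) * d⁻¹ := by
      intro y
      rw [hδ]
      set z := (conjAut huN)⁻¹ y with hz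
      set w := α⁻¹ z with hw
      have hy : (y : G) = u * (z : G) * u⁻¹ := by
        have : conjAut huN z = y := by rw [hz]; exact (conjAut huN).apply_symm_apply y
        rw [← this]; rfl
      have hzw : (z : G) = g₁ * (w : G) * g₁⁻¹ := by
        rw [← hg₁α, hw]
        exact (congrArg Subtype.val (α.apply_symm_apply z)).symm
      show ((α (conjAut huN w) : T) : G) = _
      rw [hg₁α, conjAut_apply, hy, hzw, hd]
      group
    obtain ⟨z, hzR, hzC, hz⟩ := maps_agree_on_centric h.tp h.saturated h.R_le_T h.centric_R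
      (subtype_mem E le_rfl) ((mem_autGroup_iff E le_rfl).1 hδE) fun x hx => by
        show (x : G) = ((δ x : T) : G)
        rw [hδd, ← hdR x hx]
        group
    have hl : (z : G)⁻¹ * d ∈ Subgroup.centralizer (T : Set G) := by
      intro y hy
      have h1 : d * y * d⁻¹ = (z : G) * y * (z : G)⁻¹ := (hδd ⟨y, hy⟩).symm.trans (hz ⟨y, hy⟩)
      calc y * ((z : G)⁻¹ * d) = (z : G)⁻¹ * ((z : G) * y * (z : G)⁻¹) * d := by group
        _ = (z : G)⁻¹ * (d * y * d⁻¹) * d := by rw [h1]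
        _ = _ := by group
    have hdd := trans (level3 _ (Subgroup.mul_mem _ (Subgroup.inv_mem _ (h.R_le_Q hzR)) hdQ) hl)
      hzR (mul_inv_cancel_left (z : G) d).symm
    exact coprime_step hg₁p (pel hdQ) rfl hdd
  have hmem : g₁ ∈ trivMod R (Cfsg.pCore p G) := by
    refine mem_trivMod.2 fun q hq => ?_
    set d := g₁ * q * g₁⁻¹ * q⁻¹ with hd
    have hdQ : d ∈ Cfsg.pCore p G :=
      Subgroup.mul_mem _ (hQn.conj_mem q hq g₁) (Subgroup.inv_mem _ hq)
    have hdA : MulAut.conjNormal d ∈ E.autGroup R := by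
      have h1 := mul_mem haA (h.conj_autGroup q ((E.autGroup R).inv_mem haA))
      convert h1 using 1
      rw [hd, ha]
      simp only [map_mul, map_inv, mul_assoc]
    obtain ⟨t, ht, htd⟩ := h.inner_of_mem hdQ hdA
    have hc : t⁻¹ * d ∈ Subgroup.centralizer (R : Set G) := by
      intro r hr
      calc r * (t⁻¹ * d) = t⁻¹ * (t * r * t⁻¹) * d := by group
        _ = t⁻¹ * (d * r * d⁻¹) * d := by rw [htd r hr]
        _ = _ := by group
    have hdd := trans (level2 _ (Subgroup.mul_mem _ (Subgroup.inv_mem _ (h.R_le_Q ht)) hdQ) hc)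
      ht (mul_inv_cancel_left t d).symm
    exact coprime_step hg₁p (pel hdQ) rfl hdd
  exact ⟨g₁, Subgroup.subset_closure (Or.inr ⟨⟨haA, hmem⟩, hg₁p⟩), hg₁α⟩

/-- Every automorphism of `T` in `E` is induced by an element of `bigH`. -/
theorem lift_top {α : MulAut T} (hα : α ∈ E.autGroup T) :
    ∃ g ∈ bigH p R E, ∀ x : T, ((α x : T) : G) = g * (x : G) * g⁻¹ := by
  have : Finite (MulAut T) := finite_mulAut T
  obtain ⟨e₁, e₂, he, ⟨n, hn⟩, h₂⟩ := exists_parts (p := p) (⟨α, hα⟩ : E.autGroup T)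
  obtain ⟨-, U, hU⟩ := (fullyNormalized_props h.tp h.saturated (isFullyNormalized_top E)).1
  set a := (⟨α, hα⟩ : E.autGroup T) ^ e₁
  have haU : a ∈ (U : Subgroup (E.autGroup T)) := by
    have hUn : (U : Subgroup (E.autGroup T)).Normal := by
      rw [hU]
      refine ⟨fun b hb c => ?_⟩
      obtain ⟨t, ht, htx⟩ := mem_autInducedBy_iff.1 hb
      refine mem_autInducedBy_iff.2 ⟨((c : MulAut T) ⟨t, ht⟩ : T), Subtype.prop _, fun x => ?_⟩
      show (((c : MulAut T) ((b : MulAut T) ((c : MulAut T)⁻¹ x)) : T) : G) = _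
      have e : (b : MulAut T) ((c : MulAut T)⁻¹ x) =
          ⟨t, ht⟩ * (c : MulAut T)⁻¹ x * (⟨t, ht⟩ : T)⁻¹ := Subtype.ext (htx _)
      rw [e, map_mul, map_mul, map_inv, MulAut.inv_apply, MulEquiv.apply_symm_apply]
      rfl
    obtain ⟨W, hW⟩ := (IsPGroup.of_card (n := (orderOf a).factorization p) (by
      rw [Nat.card_zpowers]
      obtain ⟨j, -, hj⟩ := (Nat.dvd_prime_pow Fact.out).1 (orderOf_dvd_of_pow_eq_one hn)
      rw [hj, Nat.Prime.factorization_pow (Fact.out : p.Prime), Finsupp.single_eq_same]) :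
        IsPGroup p (Subgroup.zpowers a)).exists_le_sylow
    obtain ⟨c, hc⟩ := MulAction.exists_smul_eq (E.autGroup T) U W
    have h1 := hW (Subgroup.mem_zpowers a)
    rw [← hc, Sylow.coe_subgroup_smul, Subgroup.mem_pointwise_smul_iff_inv_smul_mem] at h1
    simpa [mul_assoc] using hUn.conj_mem _ h1 c
  rw [hU] at haU
  obtain ⟨t, ht, htx⟩ := mem_autInducedBy_iff.1 haU
  have hb : (((⟨α, hα⟩ : E.autGroup T) ^ e₂ : E.autGroup T) : MulAut T) ∈ E.autGroup T :=
    Subtype.prop _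
  obtain ⟨g, hgH, hg⟩ := h.lift_top_coprime hb (by rw [Subgroup.orderOf_coe]; exact h₂)
  refine ⟨t * g, Subgroup.mul_mem _ (h.T_le_bigH ht) hgH, fun x => ?_⟩
  have hα' := congrArg (fun b : E.autGroup T => (((b : MulAut T) x : T) : G)) he
  refine hα'.trans ?_
  refine (htx _).trans ((congrArg (fun z => t * z * t⁻¹) (hg x)).trans ?_)
  group

/-- Every automorphism of `R` in `E` is induced by an element of `bigH`. -/
theorem lift_base {α : MulAut R} (hα : α ∈ E.autGroup R) :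
    ∃ g ∈ bigH p R E, MulAut.conjNormal g = α := by
  have : Finite (MulAut R) := finite_mulAut R
  set D := ((bigH p R E).map (MulAut.conjNormal : G →* MulAut R)).subgroupOf (E.autGroup R)
  have : D.Normal := by
    refine ⟨fun b hb a => ?_⟩
    obtain ⟨g, hg⟩ := h.autGroup_exists a.2
    obtain ⟨y, hy, hyb⟩ := hb
    refine ⟨g * y * g⁻¹, h.bigH_normal.conj_mem y hy g, ?_⟩
    rw [map_mul, map_mul, map_inv, hg, hyb]
    rfl
  obtain ⟨U, hU⟩ := h.fullyAutomized_R
  have hUD : (U : Subgroup (E.autGroup R)) ≤ D := by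
    rw [hU]
    intro a ha
    obtain ⟨t, ht, hta⟩ := mem_autInducedBy_iff.1 ha
    exact ⟨t, h.T_le_bigH ht, MulEquiv.ext fun x => Subtype.ext
      ((MulAut.conjNormal_apply t x).trans (hta x).symm)⟩
  have hN : Subgroup.normalizer ((U : Subgroup (E.autGroup R)) : Set (E.autGroup R)) ≤ D := by
    intro a ha
    have hhom := (mem_autGroup_iff E h.R_le_T).1 a.2
    obtain ⟨ψ, hψ, hψe⟩ :=
      (fullyNormalized_props h.tp h.saturated h.fullyNormalized_R).2.2 R _ hhom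
        (range_subtype_comp _)
    have hext : T ≤ extender T R (R.subtype.comp (a : MulAut R).toMonoidHom) := by
      intro t ht
      have htN : t ∈ Subgroup.normalizer (R : Set G) := by
        rw [Subgroup.normalizer_eq_top]; trivial
      refine mem_extender_of_congr hhom (range_subtype_comp _) ht htN ?_
      rw [Fusion.Alperin.congr_subtype_comp hhom]
      have h2 := (Subgroup.mem_normalizer_iff.1 ha
        ⟨conjAut htN, autInducedBy_le_autGroup E h.R_le_T (conjAut_mem_autInducedBy htN ht)⟩).1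
        (by rw [hU]; exact conjAut_mem_autInducedBy htN ht)
      rw [hU] at h2
      exact h2
    have hψ' := restrict_mem E hψ hext
    have hr : (ψ.comp (Subgroup.inclusion hext)).range = T :=
      Subgroup.eq_of_le_of_card_ge (range_le E hψ') (isConj_card (isConj_of_hom E hψ')).le
    obtain ⟨g, hg, hgx⟩ := h.lift_top (isoOf_mem_autGroup hψ' hr)
    refine ⟨g, hg, MulEquiv.ext fun x => Subtype.ext ?_⟩
    rw [MulAut.conjNormal_apply]
    exact (hgx ⟨x, h.R_le_T x.2⟩).symm.trans (hψe x x.2 _)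
  have hD : D = ⊤ := top_unique ((Sylow.normalizer_sup_eq_top' U hUD).ge.trans (sup_le hN le_rfl))
  have hmem : (⟨α, hα⟩ : E.autGroup R) ∈ D := hD ▸ Subgroup.mem_top _
  obtain ⟨g, hg, e⟩ := hmem
  exact ⟨g, hg, e⟩

theorem sylow_inter_bigK {s : G} (hs : s ∈ (S : Subgroup G)) (hsK : s ∈ bigK p R E) :
    ∃ t ∈ T, t⁻¹ * s ∈ Subgroup.centralizer (R : Set G) ⊓ trivMod R (Cfsg.pCore p G) := by
  obtain ⟨U, hU⟩ := h.fullyAutomized_R
  set B := ((S : Subgroup G).map (MulAut.conjNormal : G →* MulAut R)).subgroupOf (E.autGroup R)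
  have hBp : IsPGroup p B := ((S.isPGroup').map _).comap_subtype
  have hUB : (U : Subgroup (E.autGroup R)) ≤ B := by
    rw [hU]
    intro a ha
    obtain ⟨t, ht, hta⟩ := mem_autInducedBy_iff.1 ha
    exact ⟨t, h.le ht, MulEquiv.ext fun x => Subtype.ext
      ((MulAut.conjNormal_apply t x).trans (hta x).symm)⟩
  have hmem : (⟨_, hsK.1⟩ : E.autGroup R) ∈ (U : Subgroup (E.autGroup R)) := by
    rw [← U.3 hBp hUB]
    exact ⟨s, hs, rfl⟩
  rw [hU] at hmem
  obtain ⟨t, ht, htr⟩ := mem_autInducedBy_iff.1 hmem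
  refine ⟨t, ht, fun r hr => ?_, Subgroup.mul_mem _ (Subgroup.inv_mem _ (h.T_trivMod ht)) hsK.2⟩
  have h1 : s * r * s⁻¹ = t * r * t⁻¹ :=
    (MulAut.conjNormal_apply s ⟨r, hr⟩).symm.trans (htr ⟨r, hr⟩)
  calc r * (t⁻¹ * s) = t⁻¹ * (t * r * t⁻¹) * s := by group
    _ = t⁻¹ * (s * r * s⁻¹) * s := by rw [h1]
    _ = _ := by group

theorem bigH_inf_sylow : (S : Subgroup G) ⊓ bigH p R E = T := by
  refine le_antisymm (fun s hs => ?_) (le_inf h.le h.T_le_bigH)
  have := h.bigK_normal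
  set K := bigK p R E
  obtain ⟨P₀, hP₀⟩ := exists_sylow_inter_normal S K
  have hidx : ¬ p ∣ (P₀ : Subgroup K).index := P₀.not_dvd_index
  set P := (P₀ : Subgroup K)
  have hPS : ∀ y : K, y ∈ P → (y : G) ∈ (S : Subgroup G) := fun y hy => by
    rw [hP₀] at hy; exact hy.1
  have hPmem : ∀ y : K, (y : G) ∈ (S : Subgroup G) → y ∈ P := fun y hy => by
    show y ∈ P
    rw [show P = _ from hP₀]; exact ⟨hy, y.2⟩
  set TP := (T.subgroupOf K).subgroupOf P with hTP
  have : TP.Normal := ⟨fun t ht y => h.conj_T (hPS y y.2) ht⟩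
  let X := Subgroup.centralizer (R : Set G) ⊓ trivMod R (Cfsg.pCore p G)
  have hcomm : ∀ a b : P ⧸ TP, a * b = b * a := by
    intro a b
    obtain ⟨a, rfl⟩ := QuotientGroup.mk_surjective a
    obtain ⟨b, rfl⟩ := QuotientGroup.mk_surjective b
    obtain ⟨t, ht, hx⟩ := h.sylow_inter_bigK (hPS a a.2) ((a : K)).2
    obtain ⟨u, hu, hy⟩ := h.sylow_inter_bigK (hPS b b.2) ((b : K)).2
    set x := t⁻¹ * ((a : K) : G) with hxdef
    set y := u⁻¹ * ((b : K) : G) with hydef
    have hxQ := h.centralizer_trivMod_le hx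
    have hyQ := h.centralizer_trivMod_le hy
    let x₀ : P := ⟨⟨x, K.mul_mem (K.inv_mem (h.T_le_bigK ht)) (a : K).2⟩,
      hPmem _ (h.Q_le_S hxQ)⟩
    let y₀ : P := ⟨⟨y, K.mul_mem (K.inv_mem (h.T_le_bigK hu)) (b : K).2⟩,
      hPmem _ (h.Q_le_S hyQ)⟩
    have hax : (x₀ : P ⧸ TP) = a := (QuotientGroup.eq (s := TP)).2 (by
      show x⁻¹ * ((a : K) : G) ∈ T
      have := h.conj_T (Subgroup.inv_mem _ (h.Q_le_S hxQ)) ht
      convert this using 1
      rw [hxdef]; group)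
    have hby : (y₀ : P ⧸ TP) = b := (QuotientGroup.eq (s := TP)).2 (by
      show y⁻¹ * ((b : K) : G) ∈ T
      have := h.conj_T (Subgroup.inv_mem _ (h.Q_le_S hyQ)) hu
      convert this using 1
      rw [hydef]; group)
    rw [← hax, ← hby]
    refine (QuotientGroup.eq (s := TP)).2 ?_
    show (x * y)⁻¹ * (y * x) ∈ T
    have hR' := Subgroup.Normal.conj_mem (H := R) inferInstance _
      (mem_trivMod.1 hy.2 x hxQ) (x * y)⁻¹
    apply h.R_le_T
    convert hR' using 1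
    group
  let : CommGroup (P ⧸ TP) := { (inferInstance : Group (P ⧸ TP)) with mul_comm := hcomm }
  let φ : P →* P ⧸ TP := QuotientGroup.mk' TP
  set V := MonoidHom.transfer φ with hV
  classical
  have : Fintype (K ⧸ P) := Fintype.ofFinite _
  -- conjugates of `T` die
  have hVT : ∀ k : K, (∃ g : G, ∃ t ∈ T, g * t * g⁻¹ = (k : G)) → V k = 1 := by
    rintro k ⟨g, t, ht, hk⟩
    have : Fintype (Quotient (MulAction.orbitRel (Subgroup.zpowers k) (K ⧸ P))) :=
      Fintype.ofFinite _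
    rw [hV, MonoidHom.transfer_eq_prod_quotient_orbitRel_zpowers_quot]
    refine Finset.prod_eq_one fun q _ => (QuotientGroup.eq_one_iff _).2 ?_
    have hmem := QuotientGroup.out_conj_pow_minimalPeriod_mem P k q.out
    show ((q.out.out⁻¹ * k ^ Function.minimalPeriod (k • ·) q.out * q.out.out : K) : G) ∈ T
    revert hmem
    generalize Function.minimalPeriod (k • ·) q.out = j
    generalize q.out.out = w
    intro hmem
    have hm := hPS _ hmem
    have e : ((w⁻¹ * k ^ j * w : K) : G) = ((w : G)⁻¹ * g) * t ^ j * ((w : G)⁻¹ * g)⁻¹ := by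
      simp only [Subgroup.coe_mul, Subgroup.coe_inv, Subgroup.coe_pow, ← hk, conj_pow]
      group
    rw [e] at hm ⊢
    exact conj_mem_of_stronglyClosed h.hT (T.pow_mem ht j) hm
  have hquot : IsPGroup p (P ⧸ TP) := P₀.isPGroup'.to_quotient TP
  have hVp : ∀ k : K, (orderOf (k : G)).Coprime p → V k = 1 := by
    intro k hk
    obtain ⟨n, hn⟩ := hquot (V k)
    have h1 : orderOf (V k) ∣ Nat.gcd (orderOf (k : G)) (p ^ n) :=
      Nat.dvd_gcd (by rw [Subgroup.orderOf_coe]; exact orderOf_map_dvd V k)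
        (orderOf_dvd_of_pow_eq_one hn)
    rwa [Nat.Coprime.gcd_eq_one (hk.pow_right n), Nat.dvd_one, orderOf_eq_one_iff] at h1
  have hker : bigH p R E ≤ V.ker.map K.subtype := by
    rw [bigH, Subgroup.closure_le]
    rintro y (⟨g, t, ht, rfl⟩ | hy)
    · exact ⟨⟨_, h.bigK_normal.conj_mem _ (h.T_le_bigK ht) g⟩, hVT _ ⟨g, t, ht, rfl⟩, rfl⟩
    · exact ⟨⟨y, hy.1⟩, hVp _ hy.2, rfl⟩
  obtain ⟨t, ht, hx⟩ := h.sylow_inter_bigK hs.1 (h.bigH_le_bigK hs.2)
  set x := t⁻¹ * s with hxdef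
  have hxQ := h.centralizer_trivMod_le hx
  obtain ⟨k, hk, hkx⟩ := hker ((bigH p R E).mul_mem ((bigH p R E).inv_mem (h.T_le_bigH ht)) hs.2)
  have hkP : k ∈ P := hPmem k (by rw [show (k : G) = x from hkx]; exact h.Q_le_S hxQ)
  have hVx : V k = φ ⟨k, hkP⟩ ^ P.index := by
    have : Fintype (Quotient (MulAction.orbitRel (Subgroup.zpowers k) (K ⧸ P))) :=
      Fintype.ofFinite _
    rw [hV, MonoidHom.transfer_eq_prod_quotient_orbitRel_zpowers_quot,
      Subgroup.index_eq_sum_minimalPeriod P k, ← Finset.prod_pow_eq_pow_sum]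
    refine Finset.prod_congr rfl fun q _ => ?_
    rw [← map_pow]
    refine (QuotientGroup.eq (s := TP)).2 ?_
    show ((q.out.out⁻¹ * k ^ Function.minimalPeriod (k • ·) q.out * q.out.out : K) : G)⁻¹ *
      (k : G) ^ Function.minimalPeriod (k • ·) q.out ∈ T
    generalize Function.minimalPeriod (k • ·) q.out = j
    generalize q.out.out = w
    apply h.R_le_T
    have h1 := mem_trivMod.1 (K.inv_mem w.2).2 ((k : G) ^ j)
      (by rw [show (k : G) = x from hkx]; exact Subgroup.pow_mem _ hxQ j)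
    have h2 := Subgroup.Normal.conj_mem (H := R) inferInstance _ (R.inv_mem h1) ((k : G) ^ j)⁻¹
    convert h2 using 1
    simp only [Subgroup.coe_mul, Subgroup.coe_inv, Subgroup.coe_pow]
    group
  have hφ : φ ⟨k, hkP⟩ = 1 := by
    obtain ⟨n, hn⟩ := hquot (φ ⟨k, hkP⟩)
    have hk1 : V k = 1 := hk
    rw [hVx] at hk1
    have h1 : orderOf (φ ⟨k, hkP⟩) ∣ Nat.gcd P.index (p ^ n) :=
      Nat.dvd_gcd (orderOf_dvd_of_pow_eq_one hk1) (orderOf_dvd_of_pow_eq_one hn)
    rwa [Nat.Coprime.gcd_eq_one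
      ((((Fact.out : p.Prime).coprime_iff_not_dvd.2 hidx).symm).pow_right n), Nat.dvd_one,
      orderOf_eq_one_iff] at h1
  have hxT : x ∈ T := by
    rw [← show (k : G) = x from hkx]
    exact (QuotientGroup.eq_one_iff (⟨k, hkP⟩ : P)).1 hφ
  have e : s = t * x := by rw [hxdef]; group
  rw [e]
  exact T.mul_mem ht hxT

theorem bigH_autGroup_top {α : MulAut T}
    (hα : α ∈ (Cfsg.fusionSystemOfSubgroup (bigH p R E) T h.T_le_bigH).autGroup T)
    (hsat' : (Cfsg.fusionSystemOfSubgroup (bigH p R E) T h.T_le_bigH).IsSaturated p) :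
    α ∈ E.autGroup T := by
  set E' := Cfsg.fusionSystemOfSubgroup (bigH p R E) T h.T_le_bigH
  obtain ⟨-, -, g, hgH, hg⟩ := (mem_autGroup_iff E' le_rfl).1 hα
  have hgα : ∀ x : T, ((α x : T) : G) = g * (x : G) * g⁻¹ := hg
  have hgA : MulAut.conjNormal g ∈ E.autGroup R := (h.bigH_le_bigK hgH).1
  have hhom := (mem_autGroup_iff E h.R_le_T).1 hgA
  obtain ⟨ψ, hψ, hψe⟩ :=
    (fullyNormalized_props h.tp h.saturated h.fullyNormalized_R).2.2 R _ hhom
      (range_subtype_comp _)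
  have hext : T ≤ extender T R (R.subtype.comp (MulAut.conjNormal g : MulAut R).toMonoidHom) := by
    intro t ht
    have htN : t ∈ Subgroup.normalizer (R : Set G) := by
      rw [Subgroup.normalizer_eq_top]; trivial
    refine mem_extender_of_congr hhom (range_subtype_comp _) ht htN ?_
    rw [Fusion.Alperin.congr_subtype_comp hhom]
    refine mem_autInducedBy_iff.2 ⟨g * t * g⁻¹, hgα ⟨t, ht⟩ ▸ Subtype.prop _, fun x => ?_⟩
    rw [← conjNormal_eq_conjAut t htN, ← map_inv, ← map_mul, ← map_mul]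
    exact MulAut.conjNormal_apply _ x
  have hψ' := restrict_mem E hψ hext
  have hr : (ψ.comp (Subgroup.inclusion hext)).range = T :=
    Subgroup.eq_of_le_of_card_ge (range_le E hψ') (isConj_card (isConj_of_hom E hψ')).le
  set α₀ : MulAut T := isoOf hψ' hr with hα₀
  have hα₀E : α₀ ∈ E.autGroup T := isoOf_mem_autGroup hψ' hr
  have hα₀' : α₀ ∈ E'.autGroup T := by
    obtain ⟨k, hk, hkx⟩ := h.lift_top hα₀E
    exact mem_autGroup_of_mem E' ⟨le_rfl, fun x => (α₀ x).2, k, hk, hkx⟩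
  have hcen : E'.IsCentric R := by
    refine ⟨h.R_le_T, fun P hP => ?_⟩
    have hPR : P = R := by
      obtain ⟨φ, hφ, rfl⟩ := hP
      have hφ' := hφ
      obtain ⟨-, -, k, -, hk⟩ := hφ'
      refine Subgroup.eq_of_le_of_card_ge ?_ ?_
      · rintro _ ⟨x, rfl⟩
        rw [hk]
        exact Subgroup.Normal.conj_mem (H := R) inferInstance _ x.2 k
      · exact (isConj_card (isConj_of_hom E' hφ)).le
    rw [hPR]
    exact centralizerIn_le_of_centric h.centric_R
  obtain ⟨z, hz, -, hzy⟩ := maps_agree_on_centric h.tp hsat' h.R_le_T hcen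
    ((mem_autGroup_iff E' le_rfl).1 hα₀') ((mem_autGroup_iff E' le_rfl).1 hα) fun x hx => by
      show ((α₀ x : T) : G) = ((α x : T) : G)
      rw [hgα]
      exact (hψe x hx _).trans (MulAut.conjNormal_apply g ⟨x, hx⟩)
  have hinn : conjAut (Subgroup.le_normalizer z.2) ∈ E.autGroup T :=
    autInducedBy_le_autGroup E le_rfl (conjAut_mem_autInducedBy _ z.2)
  have e : α = α₀ * conjAut (Subgroup.le_normalizer z.2) := MulEquiv.ext fun y => Subtype.ext (by
    refine (hzy y).trans ?_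
    show ((α₀ (z * y * z⁻¹) : T) : G) = ((α₀ (conjAut _ y) : T) : G)
    congr 2)
  rw [e]
  exact mul_mem hα₀E hinn

end Setup

/-- A normal subsystem of the fusion system of a strictly `p`-constrained group is the system of
exactly one normal subgroup. -/
theorem exists_unique_normal (S : Sylow p G)
    (hG : Subgroup.centralizer ((Cfsg.pCore p G : Subgroup G) : Set G) ≤ Cfsg.pCore p G)
    (T : Subgroup G) (hTS : T ≤ (S : Subgroup G)) (E : Cfsg.FusionSystem T)
    (hE : E.IsNormalIn (Cfsg.groupFusionSystem (S : Subgroup G)) p) :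
    ∃ H : Subgroup G, (∃ hTH : T ≤ H, H.Normal ∧ (∃ R : Sylow p H, (R : Subgroup H) = T.subgroupOf H) ∧
        ∀ P : Subgroup G, E.Hom P = (Cfsg.fusionSystemOfSubgroup H T hTH).Hom P) ∧
      ∀ H' : Subgroup G, (∃ hTH' : T ≤ H', H'.Normal ∧
        (∃ R : Sylow p H', (R : Subgroup H') = T.subgroupOf H') ∧
        ∀ P : Subgroup G, E.Hom P = (Cfsg.fusionSystemOfSubgroup H' T hTH').Hom P) → H' = H := by
  have : (T ⊓ Cfsg.pCore p G).Normal := inf_pCore_normal hE.1.2.2.2.1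
  have h : Setup S T (T ⊓ Cfsg.pCore p G) E := ⟨hG, hTS, hE, rfl⟩
  set R := T ⊓ Cfsg.pCore p G
  set H := bigH p R E with hH
  have hHn : H.Normal := h.bigH_normal
  have hinf := h.bigH_inf_sylow
  have hsyl : ∃ U : Sylow p H, (U : Subgroup H) = T.subgroupOf H := by
    obtain ⟨U, hU⟩ := exists_sylow_inter_normal S H
    exact ⟨U, by rw [hU, hH, hinf]⟩
  have hE' : (Cfsg.fusionSystemOfSubgroup H T h.T_le_bigH).IsNormalIn
      (Cfsg.groupFusionSystem (S : Subgroup G)) p := by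
    have : ∀ (T' : Subgroup G) (_ : T' = (S : Subgroup G) ⊓ H) (hle : T' ≤ H),
        (Cfsg.fusionSystemOfSubgroup H T' hle).IsNormalIn
          (Cfsg.groupFusionSystem (S : Subgroup G)) p := by
      rintro _ rfl hle
      exact isNormalIn_of_normal S H
    exact this T hinf.symm _
  have htop1 : E.autGroup T ≤ (Cfsg.fusionSystemOfSubgroup H T h.T_le_bigH).autGroup T := by
    intro α hα
    obtain ⟨k, hk, hkx⟩ := h.lift_top hα
    exact mem_autGroup_of_mem _ ⟨le_rfl, fun x => (α x).2, k, hk, hkx⟩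
  have htop2 : (Cfsg.fusionSystemOfSubgroup H T h.T_le_bigH).autGroup T ≤ E.autGroup T :=
    fun α hα => h.bigH_autGroup_top hα hE'.1.1
  have hhom : ∀ P : Subgroup G, E.Hom P = (Cfsg.fusionSystemOfSubgroup H T h.T_le_bigH).Hom P := by
    intro P
    ext φ
    exact ⟨fun hφ => hom_mem_of_invariant h.tp hE.1.1 h.sub hE'.1.2.2 htop1 hφ,
      fun hφ => hom_mem_of_invariant h.tp hE'.1.1 hE'.1.2.2.1 h.invariant htop2 hφ⟩
  refine ⟨H, ⟨h.T_le_bigH, hHn, hsyl, hhom⟩, ?_⟩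
  rintro H' ⟨hTH', hH'n, ⟨U', hU'⟩, hhom'⟩
  have hH'S : ∀ x ∈ (S : Subgroup G), x ∈ H' → x ∈ T := by
    intro x hxS hxH
    have hp : IsPGroup p (((S : Subgroup G) ⊓ H').subgroupOf H') :=
      (S.isPGroup'.to_le inf_le_left).comap_subtype
    have hle : (U' : Subgroup H') ≤ ((S : Subgroup G) ⊓ H').subgroupOf H' := by
      rw [hU']
      exact fun y hy => ⟨hTS hy, y.2⟩
    have e := U'.3 hp hle
    have : (⟨x, hxH⟩ : H') ∈ (U' : Subgroup H') := e ▸ ⟨hxS, hxH⟩
    rw [hU'] at this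
    exact this
  have hA : ∀ {α : MulAut R}, α ∈ E.autGroup R ↔ ∃ g ∈ H', MulAut.conjNormal g = α := by
    intro α
    rw [mem_autGroup_iff E h.R_le_T, hhom']
    constructor
    · rintro ⟨-, -, g, hg, hgx⟩
      exact ⟨g, hg, MulEquiv.ext fun x => Subtype.ext
        ((MulAut.conjNormal_apply g x).trans (hgx x).symm)⟩
    · rintro ⟨g, hg, rfl⟩
      exact ⟨h.R_le_T, fun x => h.R_le_T ((MulAut.conjNormal g : MulAut R) x).2, g, hg,
        fun x => MulAut.conjNormal_apply g x⟩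
  have hQn := Cfsg.pCore_normal p G
  have hH'K : H' ≤ bigK p R E := by
    intro g hg
    refine ⟨hA.2 ⟨g, hg, rfl⟩, mem_trivMod.2 fun q hq => ?_⟩
    have h1 : g * q * g⁻¹ * q⁻¹ ∈ H' := by
      have e : g * q * g⁻¹ * q⁻¹ = g * (q * g⁻¹ * q⁻¹) := by group
      rw [e]
      exact H'.mul_mem hg (hH'n.conj_mem _ (H'.inv_mem hg) q)
    have h2 : g * q * g⁻¹ * q⁻¹ ∈ Cfsg.pCore p G :=
      Subgroup.mul_mem _ (hQn.conj_mem q hq g) (Subgroup.inv_mem _ hq)
    exact h.mem_R (hH'S _ (h.Q_le_S h2) h1) h2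
  apply le_antisymm
  · intro g hg
    obtain ⟨e₁, e₂, he, ⟨n, hn⟩, h₂⟩ := exists_parts (p := p) g
    rw [he]
    refine H.mul_mem ?_ (Subgroup.subset_closure (Or.inr ⟨hH'K (H'.pow_mem hg e₂), h₂⟩))
    set y : H' := ⟨g, hg⟩ ^ e₁
    have hy : IsPGroup p (Subgroup.zpowers y) := by
      obtain ⟨j, -, hj⟩ := (Nat.dvd_prime_pow (Fact.out : p.Prime)).1
        (orderOf_dvd_of_pow_eq_one hn)
      refine IsPGroup.of_card (n := j) ?_
      rw [Nat.card_zpowers, ← hj, ← Subgroup.orderOf_coe]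
      rfl
    obtain ⟨W, hW⟩ := hy.exists_le_sylow
    obtain ⟨c, hc⟩ := MulAction.exists_smul_eq H' U' W
    have h1 := hW (Subgroup.mem_zpowers y)
    rw [← hc, Sylow.coe_subgroup_smul, Subgroup.mem_pointwise_smul_iff_inv_smul_mem, hU'] at h1
    refine Subgroup.subset_closure (Or.inl ⟨(c : G), _, h1, ?_⟩)
    simp [y, mul_assoc]
  · rw [hH, bigH, Subgroup.closure_le]
    rintro y (⟨g, t, ht, rfl⟩ | ⟨hyK, hyp⟩)
    · exact hH'n.conj_mem _ (hTH' ht) g
    · obtain ⟨k, hk, hky⟩ := hA.1 hyK.1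
      have hx : k⁻¹ * y ∈ Cfsg.pCore p G := by
        refine h.centralizer_trivMod_le ⟨fun r hr => ?_,
          Subgroup.mul_mem _ (Subgroup.inv_mem _ (hH'K hk).2) hyK.2⟩
        have e : k * r * k⁻¹ = y * r * y⁻¹ := by
          rw [← MulAut.conjNormal_apply (H := R) k ⟨r, hr⟩, hky]
          exact MulAut.conjNormal_apply y ⟨r, hr⟩
        calc r * (k⁻¹ * y) = k⁻¹ * (k * r * k⁻¹) * y := by group
          _ = k⁻¹ * (y * r * y⁻¹) * y := by rw [e]
          _ = _ := by group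
      obtain ⟨n, hn⟩ := CharP.isPGroup_pCore (p := p) ⟨_, hx⟩
      refine mem_of_coprime_parts hyp ⟨n, congrArg Subtype.val hn⟩ ?_
      have h3 := hH'n.conj_mem _ (H'.inv_mem hk) y⁻¹
      simpa [mul_assoc] using h3

end CfsgLib.Fus.StrictlyConstrained
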