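import Cfsg.Agent.Fusion.Alperin.Solvable
import Cfsg.Agent.Eq.Def_TwoFusion
import Cfsg.Agent.FusMinimal.CentralizerSystem
import Cfsg.Agent.FusModel.Construction

/-!
Systems over a direct product of two strongly closed subgroups, seen on one factor.
-/

set_option autoImplicit false

namespace CfsgLib.Fus.ProductSlice

open Cfsg Cfsg.FusionSystem CfsgLib.Fus
open CfsgLib.FusModel (exists_comp)

variable {Ω : Type*} [Group Ω] {S A B : Subgroup Ω}

/-- The projection on the first factor. -/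
theorem exists_proj (h : IsInternalDirectProduct A B S) :
    ∃ θ : S →* Ω, θ.range = A ∧ (∀ s : S, (θ s)⁻¹ * (s : Ω) ∈ B) ∧
      (∀ s : S, (s : Ω) ∈ A → θ s = s) ∧ ∀ s : S, θ s = 1 ↔ (s : Ω) ∈ B := by
  obtain ⟨hA, hB, hcomm, hinf, hsup⟩ := h
  let m : A × B →* Ω := A.subtype.noncommCoprod B.subtype fun a b => hcomm a a.2 b b.2
  have hm : ∀ x, m x = (x.1 : Ω) * (x.2 : Ω) := fun x => rfl
  have hinj : Function.Injective m := by
    rw [injective_iff_map_eq_one]
    rintro ⟨⟨a, ha⟩, ⟨b, hb⟩⟩ hx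
    rw [hm] at hx
    have ha1 : a = 1 := Subgroup.mem_bot.1 (hinf ▸ ⟨ha, (show a = b⁻¹ from eq_inv_of_mul_eq_one_left hx).symm ▸ B.inv_mem hb⟩)
    subst ha1
    simp only [one_mul] at hx
    subst hx
    rfl
  have hrange : m.range = S := by
    rw [← hsup]
    exact (MonoidHom.noncommCoprod_range _ _ _).trans
      (congrArg₂ (· ⊔ ·) A.range_subtype B.range_subtype)
  let e : A × B ≃* S := (MonoidHom.ofInjective hinj).trans (MulEquiv.subgroupCongr hrange)
  let θ : S →* Ω := A.subtype.comp ((MonoidHom.fst A B).comp e.symm.toMonoidHom)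
  have hs : ∀ s : S, ((e.symm s).1 : Ω) * ((e.symm s).2 : Ω) = s := fun s => by
    rw [← hm]
    exact congrArg Subtype.val (e.apply_symm_apply s)
  have hmem : ∀ s : S, (θ s)⁻¹ * (s : Ω) ∈ B := fun s => by
    show ((e.symm s).1 : Ω)⁻¹ * (s : Ω) ∈ B
    conv => rw [← hs s]
    rw [inv_mul_cancel_left]
    exact (e.symm s).2.2
  have hθA : ∀ s : S, θ s ∈ A := fun s => (e.symm s).1.2
  have hfix : ∀ s : S, (s : Ω) ∈ A → θ s = s := fun s hsA => inv_mul_eq_one.1
    (Subgroup.mem_bot.1 (hinf ▸ ⟨A.mul_mem (A.inv_mem (hθA s)) hsA, hmem s⟩))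
  refine ⟨θ, le_antisymm ?_ fun a ha => ⟨⟨a, hA ha⟩, hfix _ ha⟩, hmem, hfix, fun s => ⟨fun h1 => ?_, fun hsB => ?_⟩⟩
  · rintro _ ⟨s, rfl⟩
    exact hθA s
  · have := hmem s
    rwa [h1, inv_one, one_mul] at this
  · refine Subgroup.mem_bot.1 (hinf ▸ ⟨hθA s, ?_⟩)
    have h2 := B.mul_mem hsB (B.inv_mem (hmem s))
    rwa [mul_inv_rev, inv_inv, mul_inv_cancel_left] at h2

variable [Finite S] {p : ℕ} [Fact p.Prime]

/-- Maps on subgroups of the first factor extend over the second. -/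
theorem exists_extend (hS : IsPGroup p S) {F : Cfsg.FusionSystem S} (hF : F.IsSaturated p)
    (h : IsInternalDirectProduct A B S) (hA : F.StronglyClosed A) (hB : F.StronglyClosed B)
    {P : Subgroup Ω} (hP : P ≤ A) {φ : P →* Ω} (hφ : φ ∈ F.Hom P) :
    ∃ ψ ∈ F.Hom (P ⊔ B), ∀ x : P, ψ (Subgroup.inclusion le_sup_left x) = φ x := by
  obtain ⟨ψ, hψ, hψe⟩ := Fusion.Alperin.exists_extend_mod hS hF hB hφ
  refine ⟨ψ, hψ, fun x => ?_⟩
  have h1 : (φ x)⁻¹ * ψ (Subgroup.inclusion le_sup_left x) ∈ A :=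
    A.mul_mem (A.inv_mem (hA.2 P hP φ hφ x))
      (Fusion.Alperin.map_mem_of_stronglyClosed hA hψ (hP x.2))
  exact (inv_mul_eq_one.1 (Subgroup.mem_bot.1 (h.2.2.2.1 ▸ ⟨h1, hψe x⟩))).symm

/-- The full subsystem on the first factor is saturated. -/
theorem isSaturated_slice (hS : IsPGroup p S) {F : Cfsg.FusionSystem S} (hF : F.IsSaturated p)
    (h : IsInternalDirectProduct A B S) (hA : F.StronglyClosed A) (hB : F.StronglyClosed B)
    (R : Cfsg.FusionSystem A) (hR : ∀ P : Subgroup Ω, P ≤ A → R.Hom P = F.Hom P) :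
    R.IsSaturated p := by
  obtain ⟨θ, hrange, hmem, hfix, hker⟩ := exists_proj h
  obtain ⟨E, hE⟩ := Fusion.Alperin.exists_isFactorSystem hB θ hker hrange
  have hEs := Fusion.Alperin.isSaturated_of_isFactorSystem hS hF hB hE
  suffices hRE : R = E by rw [hRE]; exact hEs
  have hHom : ∀ P, R.Hom P = E.Hom P := fun P => by
    ext φ'
    rw [hE.2.2.2 P φ']
    constructor
    · intro hφ
      have hP := hom_le R hφ
      refine ⟨hP, ?_⟩
      rw [hR P hP] at hφ
      obtain ⟨ψ, hψ, hψe⟩ := exists_extend hS hF h hA hB hP hφ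
      have hle : preimageAlong θ P ≤ P ⊔ B := by
        rintro _ ⟨s, hs, rfl⟩
        have e : (s : Ω) = θ s * ((θ s)⁻¹ * (s : Ω)) := (mul_inv_cancel_left _ _).symm
        show (s : Ω) ∈ P ⊔ B
        rw [e]
        exact Subgroup.mul_mem_sup hs (hmem s)
      refine ⟨_, restrict_mem F hψ hle, Subgroup.map_subtype_le _, fun x => hom_mem F hψ _,
        fun x => (Fusion.Alperin.mem_preimageAlong_iff.1 x.2).2, fun x => ?_⟩
      obtain ⟨hxS, hx⟩ := Fusion.Alperin.mem_preimageAlong_iff.1 x.2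
      have hb : (θ ⟨x, hxS⟩)⁻¹ * (x : Ω) ∈ B := hmem ⟨x, hxS⟩
      let u : (P ⊔ B : Subgroup Ω) := Subgroup.inclusion le_sup_left ⟨θ ⟨x, hxS⟩, hx⟩
      let v : (P ⊔ B : Subgroup Ω) := Subgroup.inclusion le_sup_right ⟨_, hb⟩
      have e : Subgroup.inclusion hle x = u * v := Subtype.ext (mul_inv_cancel_left _ _).symm
      have hu : ψ u ∈ A := Fusion.Alperin.map_mem_of_stronglyClosed hA hψ (hP hx)
      show φ' ⟨θ ⟨x, hxS⟩, hx⟩ = θ ⟨ψ (Subgroup.inclusion hle x), hom_mem F hψ _⟩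
      have e2 : (⟨ψ (Subgroup.inclusion hle x), hom_mem F hψ _⟩ : S) =
          ⟨ψ u, hom_mem F hψ _⟩ * ⟨ψ v, hom_mem F hψ _⟩ :=
        Subtype.ext ((congrArg ψ e).trans (map_mul ψ u v))
      rw [e2, map_mul, (hker ⟨ψ v, _⟩).2 (Fusion.Alperin.map_mem_of_stronglyClosed hB hψ hb),
        mul_one, hfix ⟨ψ u, _⟩ hu]
      exact (hψe _).symm
    · rintro ⟨hP, φ, hφ, hle, hφS, hP', hind⟩
      rw [hR P hP]
      have hPpre : P ≤ preimageAlong θ P := fun x hx =>
        Fusion.Alperin.mem_preimageAlong_iff.2 ⟨h.1 (hP hx), by rw [hfix _ (hP hx)]; exact hx⟩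
      refine hom_congr F (restrict_mem F hφ hPpre) fun x => ?_
      have h1 := hind (Subgroup.inclusion hPpre x)
      rw [hfix ⟨φ _, hφS _⟩ (Fusion.Alperin.map_mem_of_stronglyClosed hA hφ (hP x.2))] at h1
      exact (congrArg φ' (Subtype.ext (hfix ⟨x, h.1 (hP x.2)⟩ (hP x.2)).symm)).trans h1
  obtain ⟨_, _, _, _, _, _⟩ := R
  obtain ⟨_, _, _, _, _, _⟩ := E
  congr
  exact funext hHom

theorem centralizerIn_eq (h : IsInternalDirectProduct A B S) :
    IsInternalDirectProduct A (B ⊓ Subgroup.centralizer (B : Set Ω)) (centralizerIn S B) := by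
  obtain ⟨hA, hB, hcomm, hinf, hsup⟩ := h
  have hAC : A ≤ centralizerIn S B := fun a ha =>
    ⟨hA ha, fun b hb => (hcomm a ha b hb).symm⟩
  refine ⟨hAC, fun b hb => ⟨hB hb.1, hb.2⟩, fun a ha b hb => hcomm a ha b hb.1,
    le_bot_iff.1 (le_trans (inf_le_inf_left A inf_le_left) hinf.le),
    le_antisymm (sup_le hAC fun b hb => ⟨hB hb.1, hb.2⟩) fun x hx => ?_⟩
  obtain ⟨θ, hrange, hmem, -, -⟩ := exists_proj ⟨hA, hB, hcomm, hinf, hsup⟩
  have ha : θ ⟨x, hx.1⟩ ∈ A := hrange ▸ ⟨_, rfl⟩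
  rw [← mul_inv_cancel_left (θ ⟨x, hx.1⟩) x]
  exact Subgroup.mul_mem_sup ha ⟨hmem ⟨x, hx.1⟩,
    Subgroup.mul_mem _ (Subgroup.inv_mem _ (hAC ha).2) hx.2⟩

theorem normal_system_facts (hS : IsPGroup p S) {F : Cfsg.FusionSystem S} (hF : F.IsSaturated p)
    (h : IsInternalDirectProduct A B S) (hA : F.StronglyClosed A) (hB : F.StronglyClosed B)
    (R R' : Cfsg.FusionSystem A) (hR : ∀ P : Subgroup Ω, P ≤ A → R.Hom P = F.Hom P)
    (hR' : ∀ P : Subgroup Ω, P ≤ A → R'.Hom P = F.centralizerHom B P) :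
    R.IsSaturated p ∧ R'.IsSaturated p ∧ R'.IsNormalIn F p ∧ R'.IsNormalIn R p ∧
      R.IsWeaklyNormalIn F p := by
  have hRsat := isSaturated_slice hS hF h hA hB R hR
  have hBrec : F.IsReceptive B := (fullyNormalized_props hS hF
    (FusMinimal.isFullyNormalized_of_le_normalizer F hB.1
      (Fusion.Alperin.le_normalizer_of_stronglyClosed hB))).2
  have hCprod := centralizerIn_eq h
  haveI : Finite (centralizerIn S B) := finite_of_le (centralizerIn_le B)
  have hCsat := FusMinimal.centralizerSystem_isSaturated hS hF hBrec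
  have hA' : (centralizerSystem F B hB.1).StronglyClosed A :=
    ⟨hCprod.1, fun P hP φ hφ x => hA.2 P hP φ hφ.1 x⟩
  have hB' : (centralizerSystem F B hB.1).StronglyClosed (B ⊓ Subgroup.centralizer (B : Set Ω)) :=
    ⟨hCprod.2.1, fun P hP φ hφ x => ⟨hB.2 P (hP.trans inf_le_left) φ hφ.1 x, (hφ.2.2.1 x).2⟩⟩
  have hR'sat : R'.IsSaturated p := isSaturated_slice (hS.to_le (centralizerIn_le B)) hCsat hCprod
    hA' hB' R' fun P hP => hR' P hP
  haveI : Finite B := finite_of_le hB.1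
  haveI : Finite A := finite_of_le hA.1
  have hAB : A ⊔ B = S := h.2.2.2.2
  -- conjugation by an automorphism of the first factor
  have conj : ∀ {P : Subgroup Ω} (hP : P ≤ A) {φ : P →* Ω}, φ ∈ R'.Hom P → ∀ α ∈ F.autGroup A,
      ∃ χ ∈ R'.Hom ((P.subgroupOf A).map (A.subtype.comp (α : MulAut A).toMonoidHom)),
        ∀ (x : P) (hφx : φ x ∈ A)
          (hαx : ((α ⟨x, hP x.2⟩ : A) : Ω) ∈ (P.subgroupOf A).map (A.subtype.comp (α : MulAut A).toMonoidHom)),
          χ ⟨(α ⟨x, hP x.2⟩ : A), hαx⟩ = ((α ⟨φ x, hφx⟩ : A) : Ω) := by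
    intro P hP φ hφ α hα
    rw [hR' P hP] at hφ
    obtain ⟨hφF, -, -, ψ, hψ, hψe, hψB⟩ := hφ
    obtain ⟨a, ha, hae⟩ := exists_extend hS hF h hA hB le_rfl ((mem_autGroup_iff F hA.1).1 hα)
    set αP := (P.subgroupOf A).map (A.subtype.comp (α : MulAut A).toMonoidHom) with hαP
    have hαPA : αP ≤ A := by rintro _ ⟨x, -, rfl⟩; exact (α x).2
    have haB : ∀ b : (A ⊔ B : Subgroup Ω), (b : Ω) ∈ B → a b ∈ B := fun b hb =>
      Fusion.Alperin.map_mem_of_stronglyClosed hB ha hb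
    have hsurjB : ∀ b ∈ B, ∃ c : (A ⊔ B : Subgroup Ω), (c : Ω) ∈ B ∧ a c = b := by
      intro b hb
      obtain ⟨c, hc, hcb⟩ : b ∈ (B.subgroupOf (A ⊔ B)).map a := by
        rw [Fusion.Alperin.subgroupOf_map_eq (F.injective_of_mem ha) le_sup_right haB]
        exact hb
      exact ⟨c, hc, hcb⟩
    obtain ⟨ai, hai, hair, haia, -⟩ := exists_inv F ha rfl
    have hle : αP ⊔ B ≤ a.range := by
      refine sup_le (fun y hy => ?_) fun b hb => ?_
      · obtain ⟨x, -, rfl⟩ := hy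
        exact ⟨Subgroup.inclusion le_sup_left x, hae x⟩
      · obtain ⟨c, -, hc⟩ := hsurjB b hb
        exact ⟨c, hc⟩
    let g := ai.comp (Subgroup.inclusion hle)
    have hg : g ∈ F.Hom (αP ⊔ B) := restrict_mem F hai hle
    have hgval : ∀ (x : (A ⊔ B : Subgroup Ω)) (hx : a x ∈ αP ⊔ B), g ⟨a x, hx⟩ = x :=
      fun x hx => haia x _
    have hgdom : ∀ y, g y ∈ P ⊔ B := by
      refine fun y => map_mem_sup g (A := P) (B := B) ?_ ?_ y
      · rintro ⟨_, x, hx, rfl⟩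
        have e : (⟨_, Subgroup.mem_sup_left ⟨x, hx, rfl⟩⟩ : (αP ⊔ B : Subgroup Ω)) =
            ⟨a (Subgroup.inclusion le_sup_left x), by rw [hae]; exact Subgroup.mem_sup_left ⟨x, hx, rfl⟩⟩ :=
          Subtype.ext (hae x).symm
        show g ⟨_, _⟩ ∈ P
        rw [e, hgval]
        exact hx
      · rintro ⟨b, hb⟩
        obtain ⟨c, hc, rfl⟩ := hsurjB b hb
        show g ⟨a c, _⟩ ∈ B
        rw [hgval]
        exact hc
    obtain ⟨m, hm, hm'⟩ := exists_comp hg hψ hgdom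
    have hmS : ∀ y, m y ∈ A ⊔ B := fun y => hAB.ge (hom_mem F hm y)
    obtain ⟨χ, hχ, hχ'⟩ := exists_comp hm ha hmS
    have hχB : ∀ b : B, χ (Subgroup.inclusion le_sup_right b) = b := by
      rintro ⟨b, hb⟩
      obtain ⟨c, hc, rfl⟩ := hsurjB b hb
      rw [hχ']
      have h1 : m (Subgroup.inclusion le_sup_right ⟨a c, hb⟩) = (c : Ω) := by
        rw [hm']
        have e : (⟨g (Subgroup.inclusion le_sup_right ⟨a c, hb⟩), hgdom _⟩ : (P ⊔ B : Subgroup Ω)) =
            Subgroup.inclusion le_sup_right ⟨(c : Ω), hc⟩ := Subtype.ext (hgval c _)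
        rw [e]
        exact hψB _
      exact congrArg a (Subtype.ext h1)
    have hχA : ∀ y : αP, χ (Subgroup.inclusion le_sup_left y) ∈ A := fun y =>
      Fusion.Alperin.map_mem_of_stronglyClosed hA hχ (hαPA y.2)
    refine ⟨χ.comp (Subgroup.inclusion le_sup_left), ?_, fun x hφx hαx => ?_⟩
    · rw [hR' _ hαPA]
      exact ⟨restrict_mem F hχ _, hαPA.trans hCprod.1, fun y => hCprod.1 (hχA y), χ, hχ,
        fun y => rfl, hχB⟩
    · show χ (Subgroup.inclusion le_sup_left ⟨_, hαx⟩) = _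
      rw [hχ']
      have h1 : m (Subgroup.inclusion le_sup_left ⟨_, hαx⟩) = φ x := by
        rw [hm']
        have e0 : g (Subgroup.inclusion le_sup_left ⟨_, hαx⟩) = (x : Ω) :=
          (congrArg g (Subtype.ext (hae ⟨(x : Ω), hP x.2⟩).symm)).trans
            (hgval (Subgroup.inclusion le_sup_left ⟨(x : Ω), hP x.2⟩)
              (by rw [hae]; exact Subgroup.mem_sup_left hαx))
        have e : (⟨g (Subgroup.inclusion le_sup_left ⟨_, hαx⟩), hgdom _⟩ : (P ⊔ B : Subgroup Ω)) =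
            Subgroup.inclusion le_sup_left x := Subtype.ext e0
        rw [e]
        exact hψe x
      exact (congrArg a (Subtype.ext h1 : (⟨_, hmS _⟩ : (A ⊔ B : Subgroup Ω)) =
        Subgroup.inclusion le_sup_left ⟨φ x, hφx⟩)).trans (hae ⟨φ x, hφx⟩)
  -- every map is an automorphism of the first factor after a map fixing the second
  have fac : ∀ {P : Subgroup Ω} (hP : P ≤ A) {φ : P →* Ω}, φ ∈ F.Hom P →
      ∃ α ∈ F.autGroup A, ∃ φ₀ ∈ R'.Hom P, ∀ (x : P) (hx : φ₀ x ∈ A),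
        φ x = ((α ⟨φ₀ x, hx⟩ : A) : Ω) := by
    intro P hP φ hφ
    obtain ⟨ψ, hψ, hψe⟩ := exists_extend hS hF h hA hB hP hφ
    have hψB := restrict_mem F hψ (le_sup_right : B ≤ P ⊔ B)
    set γ := ψ.comp (Subgroup.inclusion (le_sup_right : B ≤ P ⊔ B))
    have hγr : γ.range = B := Subgroup.eq_of_le_of_card_ge
      (by rintro _ ⟨b, rfl⟩; exact hB.2 B le_rfl γ hψB b)
      (Nat.card_congr (MonoidHom.ofInjective (F.injective_of_mem hψB)).toEquiv).le
    have hext : A ⊔ B ≤ extender S B γ := by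
      refine sup_le (fun a ha => ?_) (le_extender F hψB)
      exact centralizerIn_le_extender (hCprod.1 ha)
    obtain ⟨b, hb, hbe⟩ := exists_ext hBrec hψB hγr le_sup_right hext
    have hbr : b.range = S := Subgroup.eq_of_le_of_card_ge (range_le F hb)
      (le_of_eq ((congrArg (fun K : Subgroup Ω => Nat.card K) hAB).symm.trans
        (Nat.card_congr (MonoidHom.ofInjective (F.injective_of_mem hb)).toEquiv)))
    have hbA := restrict_mem F hb (le_sup_left : A ≤ A ⊔ B)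
    have hbAr : (b.comp (Subgroup.inclusion (le_sup_left : A ≤ A ⊔ B))).range = A :=
      Subgroup.eq_of_le_of_card_ge (by rintro _ ⟨a, rfl⟩; exact hA.2 A le_rfl _ hbA a)
        (Nat.card_congr (MonoidHom.ofInjective (F.injective_of_mem hbA)).toEquiv).le
    refine ⟨_, isoOf_mem_autGroup hbA hbAr, ?_⟩
    obtain ⟨bi, hbi, hbir, hbib, hbbi⟩ := exists_inv F hb hbr
    obtain ⟨χ, hχ, hχ'⟩ := exists_comp hψ hbi fun y => hom_mem F hψ y
    have hχA : ∀ x : P, χ (Subgroup.inclusion le_sup_left x) ∈ A := fun x =>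
      Fusion.Alperin.map_mem_of_stronglyClosed hA hχ (hP x.2)
    refine ⟨χ.comp (Subgroup.inclusion le_sup_left), ?_, fun x hx => ?_⟩
    · rw [hR' P hP]
      refine ⟨restrict_mem F hχ _, hP.trans hCprod.1, fun x => hCprod.1 (hχA x), χ, hχ,
        fun x => rfl, fun y => ?_⟩
      rw [hχ']
      have h1 := hbib (Subgroup.inclusion le_sup_right y) (hom_mem F hb _)
      exact (congrArg bi (Subtype.ext (hbe y).symm : (⟨ψ (Subgroup.inclusion le_sup_right y),
        hom_mem F hψ _⟩ : S) = ⟨b (Subgroup.inclusion le_sup_right y), hom_mem F hb _⟩)).trans h1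
    · show φ x = b (Subgroup.inclusion le_sup_left ⟨χ (Subgroup.inclusion le_sup_left x), hx⟩)
      have h1 := hbbi ⟨ψ (Subgroup.inclusion le_sup_left x), hom_mem F hψ _⟩
        (hbir.le ⟨_, rfl⟩)
      refine ((hψe x).symm.trans h1.symm).trans (congrArg b (Subtype.ext ?_))
      exact (hχ' _).symm
  have hsub : R'.IsSubsystemOf F := fun P φ hφ => by
    rw [hR' P (hom_le R' hφ)] at hφ
    exact hφ.1
  have hRsub : R.IsSubsystemOf F := fun P φ hφ => by rwa [hR P (hom_le R hφ)] at hφ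
  have hautR : R.autGroup A = F.autGroup A := le_antisymm (autGroup_mono hRsub A) fun α hα =>
    mem_autGroup_of_mem R (by rw [hR A le_rfl]; exact (mem_autGroup_iff F hA.1).1 hα)
  have hWN : R'.IsWeaklyNormalIn F p :=
    ⟨hR'sat, hF, hsub, hA, fun P hP φ hφ α hα => conj hP hφ α hα, fun P hP φ hφ => fac hP hφ⟩
  refine ⟨hRsat, hR'sat, ⟨hWN, ?_⟩, ⟨⟨hR'sat, hRsat, ?_, ?_, ?_, ?_⟩, ?_⟩,
    hRsat, hF, hRsub, hA, ?_, ?_⟩
  · intro α hα
    have h1 : A.subtype.comp α.toMonoidHom ∈ F.centralizerHom B A :=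
      hR' A le_rfl ▸ (mem_autGroup_iff R' le_rfl).1 hα
    obtain ⟨-, -, -, ψ, hψ, hψe, hψB⟩ := h1
    set D := A ⊔ centralizerIn S A
    have hDS : D ≤ A ⊔ B := hAB.ge.trans' (sup_le hA.1 (centralizerIn_le A))
    haveI : Finite D := finite_of_le (hDS.trans hAB.le)
    have hD := restrict_mem F hψ hDS
    have hcen : ∀ c ∈ centralizerIn S A, ∀ u : (A ⊔ B : Subgroup Ω), (u : Ω) = c →
        c⁻¹ * ψ u ∈ A ⊓ Subgroup.centralizer (A : Set Ω) := by
      intro c hc u hu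
      obtain ⟨θ, hrange, hmem, -, -⟩ := exists_proj h
      set a := θ ⟨c, hc.1⟩ with hadef
      have ha : a ∈ A := hrange ▸ ⟨_, rfl⟩
      have hb : a⁻¹ * c ∈ B := hmem ⟨c, hc.1⟩
      have hac : a ∈ Subgroup.centralizer (A : Set Ω) := by
        have hb' : a⁻¹ * c ∈ Subgroup.centralizer (A : Set Ω) :=
          fun y hy => h.2.2.1 y hy _ hb
        have h3 := Subgroup.mul_mem _ hc.2 (Subgroup.inv_mem _ hb')
        rwa [mul_inv_rev, inv_inv, mul_inv_cancel_left] at h3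
      have e : u = Subgroup.inclusion le_sup_left ⟨a, ha⟩ * Subgroup.inclusion le_sup_right ⟨_, hb⟩ :=
        Subtype.ext (hu.trans (mul_inv_cancel_left a c).symm)
      have hbc : (a⁻¹ * c) * a = a * (a⁻¹ * c) := (h.2.2.1 a ha _ hb).symm
      rw [e, map_mul, hψe, hψB]
      show c⁻¹ * (((α ⟨a, ha⟩ : A) : Ω) * (a⁻¹ * c)) ∈ _
      have e2 : c⁻¹ * (((α ⟨a, ha⟩ : A) : Ω) * (a⁻¹ * c)) = a⁻¹ * ((α ⟨a, ha⟩ : A) : Ω) := by
        have h4 : a⁻¹ * c = c * a⁻¹ := hc.2 a⁻¹ (A.inv_mem ha)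
        rw [h.2.2.1 _ (α ⟨a, ha⟩).2 _ hb, h4]
        group
      rw [e2]
      refine ⟨A.mul_mem (A.inv_mem ha) (α _).2,
        Subgroup.mul_mem _ (Subgroup.inv_mem _ hac) fun y hy => ?_⟩
      obtain ⟨z, hz⟩ := α.surjective ⟨y, hy⟩
      rw [show y = ((α z : A) : Ω) from (congrArg Subtype.val hz).symm, ← Subgroup.coe_mul,
        ← Subgroup.coe_mul, ← map_mul, ← map_mul]
      exact congrArg (fun t : A => ((α t : A) : Ω)) (Subtype.ext (hac z z.2))
    have hDr : (ψ.comp (Subgroup.inclusion hDS)).range = D := by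
      refine Subgroup.eq_of_le_of_card_ge ?_
        (Nat.card_congr (MonoidHom.ofInjective (F.injective_of_mem hD)).toEquiv).le
      rintro _ ⟨x, rfl⟩
      refine map_mem_sup (ψ.comp (Subgroup.inclusion hDS)) (A := A) (B := centralizerIn S A)
        (fun y => ?_) (fun y => ?_) x
      · show ψ _ ∈ A
        exact (hψe y).symm ▸ (α y).2
      · refine ⟨hom_mem F hD _, ?_⟩
        have h3 := Subgroup.mul_mem _ y.2.2 (hcen y y.2 (Subgroup.inclusion hDS (Subgroup.inclusion le_sup_right y)) rfl).2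
        rwa [mul_inv_cancel_left] at h3
    exact ⟨_, isoOf_mem_autGroup hD hDr, fun x => hψe x, fun c hc => hcen c hc _ rfl⟩
  · intro P φ hφ
    rw [hR P (hom_le R' hφ)]
    exact hsub P hφ
  · exact ⟨le_rfl, fun P hP φ hφ x => hA.2 P hP φ (hRsub P hφ) x⟩
  · intro P hP φ hφ α hα
    exact conj hP hφ α (hautR ▸ hα)
  · intro P hP φ hφ
    obtain ⟨α, hα, h'⟩ := fac hP (hRsub P hφ)
    exact ⟨α, hautR ▸ hα, h'⟩
  · intro α hα
    have hsup : A ⊔ centralizerIn A A = A := sup_eq_left.2 inf_le_left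
    let e := MulEquiv.subgroupCongr hsup
    have hαR : α ∈ R.autGroup A := by
      rw [hautR]
      exact autGroup_mono hsub A hα
    refine ⟨(e.trans α).trans e.symm, mem_autGroup_of_mem R ?_, fun x => rfl, fun c hc => ?_⟩
    · refine hom_congr R (restrict_mem R ((mem_autGroup_iff R le_rfl).1 hαR) hsup.le) fun x => rfl
    · obtain ⟨hcA, hcC⟩ := hc
      refine ⟨A.mul_mem (A.inv_mem hcA) (α _).2,
        Subgroup.mul_mem _ (Subgroup.inv_mem _ hcC) fun y hy => ?_⟩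
      obtain ⟨z, hz⟩ := α.surjective ⟨y, hy⟩
      rw [show y = ((α z : A) : Ω) from (congrArg Subtype.val hz).symm]
      show ((α z : A) : Ω) * ((α (e c) : A) : Ω) = ((α (e c) : A) : Ω) * ((α z : A) : Ω)
      rw [← Subgroup.coe_mul, ← Subgroup.coe_mul, ← map_mul, ← map_mul]
      exact congrArg (fun t : A => ((α t : A) : Ω)) (Subtype.ext (hcC z z.2))
  · intro P hP φ hφ α hα
    have hαm := (mem_autGroup_iff F hA.1).1 hα
    have hαr : (A.subtype.comp (α : MulAut A).toMonoidHom).range = A := range_subtype_comp _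
    set αP := (P.subgroupOf A).map (A.subtype.comp (α : MulAut A).toMonoidHom)
    have hαPA : αP ≤ A := Subgroup.map_le_range _ _ |>.trans hαr.le
    obtain ⟨ai, hai, -, haia, -⟩ := exists_inv F hαm hαr
    have hg := restrict_mem F hai hαPA
    have hgP : ∀ y, ai.comp (Subgroup.inclusion hαPA) y ∈ P := by
      rintro ⟨_, x, hx, rfl⟩
      show ai _ ∈ P
      exact (haia x (α x).2).symm ▸ hx
    obtain ⟨m, hm, hm'⟩ := exists_comp hg (hRsub P hφ) hgP
    have hmA : ∀ y, m y ∈ A := fun y => hA.2 αP hαPA m hm y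
    obtain ⟨χ, hχ, hχ'⟩ := exists_comp hm hαm hmA
    refine ⟨χ, by rwa [hR _ hαPA], fun x hφx hαx => ?_⟩
    rw [hχ']
    refine congrArg (fun t : A => ((α t : A) : Ω)) (Subtype.ext ?_)
    show m _ = φ x
    rw [hm']
    exact congrArg φ (Subtype.ext (haia ⟨x, hP x.2⟩ (α _).2))
  · intro P hP φ hφ
    refine ⟨1, Subgroup.one_mem _, φ, by rwa [hR P hP], fun x hx => rfl⟩

end CfsgLib.Fus.ProductSlice
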