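import Cfsg.Agent.Fus.AbelianRankTwo

/-!
Abelian essential subgroups with at most two generators.
-/

set_option autoImplicit false

namespace CfsgLib.Fus.EssentialAbelian

open Cfsg Cfsg.FusionSystem CfsgLib.Fus CfsgLib.Fus.EssentialSmall CfsgLib.Fus.EssentialRankTwo
open CfsgLib.Fus.AbelianRankTwo

variable {Ω : Type*} [Group Ω] {S : Subgroup Ω} [Finite S] {p : ℕ} [Fact p.Prime]
  {F : Cfsg.FusionSystem S} {H : Subgroup Ω}

/-- The automorphism group of an abelian essential subgroup has trivial `p`-core. -/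
theorem eq_one_of_mem_pCore (hH : F.IsEssential p H) (hcomm : ∀ x y : H, x * y = y * x)
    {a : F.autGroup H} (ha : a ∈ Cfsg.pCore p (F.autGroup H)) : a = 1 := by
  obtain ⟨hc, -, hn, E, hE⟩ := hH
  have : Finite H := finite_of_le hc.1
  have : Finite (MulAut H) := finite_mulAut H
  set f := QuotientGroup.mk' ((Inn H).subgroupOf (F.autGroup H))
  set Q := (Cfsg.pCore p (F.autGroup H)).map f
  have hQn : Q.Normal := (Cfsg.pCore_normal p _).map f (QuotientGroup.mk'_surjective _)
  have hQp : IsPGroup p Q := (CharP.isPGroup_pCore (p := p) (G := F.autGroup H)).map f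
  obtain ⟨P, -, hloc⟩ := LocalCharP.exists_sylow_le hE
  have hQ : Q = ⊥ := by
    by_contra hne
    have hQP : Q ≤ (P : Subgroup (F.autGroup H ⧸ (Inn H).subgroupOf (F.autGroup H))) :=
      (CharP.le_pCore hQn hQp).trans (CharP.pCore_le_sylow P)
    have h := hloc Q hQP hne
    rw [Subgroup.normalizer_eq_top_iff.2 hQn] at h
    exact hE.2.1 (top_le_iff.1 h)
  have h1 : f a ∈ Q := Subgroup.mem_map_of_mem f ha
  rw [hQ, Subgroup.mem_bot, QuotientGroup.mk'_apply, QuotientGroup.eq_one_iff,
    Subgroup.mem_subgroupOf] at h1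
  obtain ⟨g, hg⟩ := h1
  refine Subtype.ext (hg.symm.trans (MulEquiv.ext fun x => ?_))
  rw [MulAut.conj_apply, hcomm g x, mul_inv_cancel_right]
  rfl

theorem homocyclic_structure (hS : IsPGroup p S) (hH : F.IsEssential p H)
    (hcomm : ∀ x y : H, x * y = y * x) (hrk : (frattini ↥H).index ≤ p ^ 2) :
    ((∀ x : H, x ^ p = 1) ∧ Nat.card H = p ^ 2) ∨
      (p ≤ 3 ∧ ∃ k : ℕ, Nonempty (↥H ≃* Multiplicative (ZMod (p ^ k) × ZMod (p ^ k)))) := by
  have : Finite H := finite_of_le hH.1.1
  have : Finite (MulAut H) := finite_mulAut H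
  let inst : CommGroup H := { (inferInstance : Group H) with mul_comm := hcomm }
  have hP : IsPGroup p H := hS.to_le hH.1.1
  rw [frattini_eq_powers hP] at hrk
  obtain ⟨n, hn⟩ : ∃ n, ∀ x : H, x ^ p ^ n = 1 := by
    obtain ⟨n, hn⟩ := IsPGroup.iff_card.1 hP
    exact ⟨n, fun x => hn ▸ pow_card_eq_one'⟩
  rcases exists_series_or_homocyclic hP hrk with ⟨M, hMinv, hPM, hMi, hPi⟩ | ⟨a, ha1, hidx, hexp, hM⟩
  · exfalso
    have hpinv : ∀ φ : MulAut H, ∀ x ∈ powers H p, φ x ∈ powers H p := fun φ _ hx => map_mem_powers φ hx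
    let D : ℕ → Subgroup H := fun m =>
      if m % 2 = 0 then powers H (p ^ (m / 2)) else M.map (powMonoidHom (p ^ (m / 2)) : H →* H)
    have hstep : ∀ m, D (m + 1) ≤ D m := by
      intro m
      simp only [D]
      rcases Nat.even_or_odd' m with ⟨i, rfl | rfl⟩
      · rw [if_neg (by omega), if_pos (by omega), show (2 * i + 1) / 2 = i by omega,
          show 2 * i / 2 = i by omega]
        rintro _ ⟨u, -, rfl⟩
        exact mem_powers.2 ⟨u, rfl⟩
      · rw [if_pos (by omega), if_neg (by omega), show (2 * i + 1 + 1) / 2 = i + 1 by omega,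
          show (2 * i + 1) / 2 = i by omega]
        intro x hx
        obtain ⟨u, rfl⟩ := mem_powers.1 hx
        refine ⟨u ^ p, hPM (mem_powers.2 ⟨u, rfl⟩), ?_⟩
        show (u ^ p) ^ p ^ i = u ^ p ^ (i + 1)
        rw [← pow_mul, pow_succ']
    have hanti : Antitone D := antitone_nat_of_succ_le hstep
    refine false_of_stabilizes hS hH (2 * n) (fun j => D (2 * n - j)) ?_ ?_ ?_ ?_ ?_
    · show D (2 * n - 0) = ⊥
      simp only [D]
      rw [if_pos (by omega), show (2 * n - 0) / 2 = n by omega]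
      exact powers_eq_bot hn
    · show D (2 * n - 2 * n) = ⊤
      rw [Nat.sub_self]
      exact powers_one
    · exact fun i j hij => hanti (Nat.sub_le_sub_left hij _)
    · intro i b _ x hx
      simp only [D] at hx ⊢
      split_ifs at hx ⊢
      · exact map_mem_powers b hx
      · obtain ⟨u, hu, rfl⟩ := hx
        exact ⟨b u, hMinv b u hu, (map_pow b u _).symm⟩
    · intro b _ k hk j hj x hx
      have h1 : ∀ u ∈ (⊤ : Subgroup H), u⁻¹ * b u ∈ M :=
        inv_mul_mem_of_relIndex hk inferInstance (by rw [Subgroup.relIndex_top_right]; exact hMi)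
          (fun u _ => Subgroup.mem_top _) (hMinv b)
      have h2 : ∀ u ∈ M, u⁻¹ * b u ∈ powers H p :=
        inv_mul_mem_of_relIndex hk inferInstance hPi (hMinv b) (hpinv b)
      have hms : 2 * n - j = 2 * n - (j + 1) + 1 := by omega
      show x⁻¹ * b x ∈ D (2 * n - j)
      rw [hms]
      generalize 2 * n - (j + 1) = m at hx
      simp only [D] at hx ⊢
      rcases Nat.even_or_odd' m with ⟨i, rfl | rfl⟩
      · rw [if_pos (by omega), show 2 * i / 2 = i by omega] at hx
        rw [if_neg (by omega), show (2 * i + 1) / 2 = i by omega]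
        obtain ⟨u, rfl⟩ := mem_powers.1 hx
        refine ⟨u⁻¹ * b u, h1 u (Subgroup.mem_top _), ?_⟩
        show (u⁻¹ * b u) ^ p ^ i = _
        rw [mul_pow, inv_pow, map_pow]
      · rw [if_neg (by omega), show (2 * i + 1) / 2 = i by omega] at hx
        rw [if_pos (by omega), show (2 * i + 1 + 1) / 2 = i + 1 by omega]
        obtain ⟨u, hu, rfl⟩ := hx
        obtain ⟨w, hw⟩ := mem_powers.1 (h2 u hu)
        refine mem_powers.2 ⟨w, ?_⟩
        show w ^ p ^ (i + 1) = (u ^ p ^ i)⁻¹ * b (u ^ p ^ i)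
        rw [pow_succ', pow_mul, hw, mul_pow, inv_pow, map_pow]
  · rcases Nat.lt_or_ge a 2 with ha | ha
    · refine Or.inl ?_
      obtain rfl : a = 1 := by omega
      refine ⟨fun x => by simpa using hexp x, ?_⟩
      have h := card_powers_eq hexp hM hidx 1 le_rfl
      rwa [Nat.sub_self, powers_one, Subgroup.card_top, mul_one] at h
    refine Or.inr ⟨?_, a, homocyclic hP hexp hM hidx⟩
    by_contra hp3
    have hp5 : 5 ≤ p := by
      by_contra h5
      have hp4 : p = 4 := by omega
      exact absurd (hp4 ▸ (Fact.out : p.Prime)) (by norm_num)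
    obtain ⟨g, hg⟩ := exists_orderOf_eq hH
    have hgp : (g : MulAut H) ^ p = 1 := congrArg Subtype.val (orderOf_dvd_iff_pow_eq_one.1 hg.dvd)
    have htriv := trivial_of_five hp5 ha hM hidx hgp
    let L : ℕ → Subgroup Ω := fun i => (powers H (p ^ (a - i))).map H.subtype
    have hmem : ∀ {i : ℕ} {x : H}, (x : Ω) ∈ L i ↔ x ∈ powers H (p ^ (a - i)) :=
      fun {i x} => Subgroup.mem_map_iff_mem H.subtype_injective
    have hg1 : g = 1 := by
      refine eq_one_of_mem_pCore hH hcomm
        (Fusion.Alperin.mem_pCore_of_stabilizes hP _ a L ?_ ?_ ?_ ?_ ?_)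
      · show (powers H (p ^ (a - 0))).map H.subtype = ⊥
        rw [Nat.sub_zero, powers_eq_bot hexp, Subgroup.map_bot]
      · show H ≤ (powers H (p ^ (a - a))).map H.subtype
        rw [Nat.sub_self, powers_one, ← MonoidHom.range_eq_map, Subgroup.range_subtype]
      · exact fun i j hij => Subgroup.map_mono (powers_antitone (Nat.sub_le_sub_left hij a))
      · exact fun i b _ x hx => hmem.2 (map_mem_powers b (hmem.1 hx))
      · intro i hi x hx
        refine hmem.2 (?_ : x⁻¹ * (g : MulAut H) x ∈ _)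
        obtain ⟨u, rfl⟩ := mem_powers.1 (hmem.1 hx)
        obtain ⟨w, hw⟩ := mem_powers.1 (htriv u)
        refine mem_powers.2 ⟨w, ?_⟩
        rw [show a - i = a - (i + 1) + 1 by omega, pow_succ', pow_mul, hw, mul_pow, inv_pow, map_pow]
    rw [hg1, orderOf_one] at hg
    exact (Fact.out : p.Prime).one_lt.ne hg

end CfsgLib.Fus.EssentialAbelian
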